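import Groth.Agent.Lib.SmoothDesc24.Refine
import Groth.Agent.Lib.ProEtEps19.Cochain
import Groth.Agent.Lib.CmpBig24.FppfEt

/-! fppf sheaves whose Čech complexes of finite flat covers are exact étale locally on the base. -/

universe u

open CategoryTheory CategoryTheory.Limits AlgebraicGeometry Opposite
open Groth.Agent.ProEtEps19 (Tup Cochain CechExact)

set_option linter.style.haveILetI false
set_option linter.unusedSectionVars false
set_option backward.isDefEq.respectTransparency false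
set_option backward.isDefEq.respectTransparency.types false

namespace Groth.Agent.SmoothDesc24

section Restr

variable {C : Type*} [Category C] {W Y W' Y' : C} {g : W ⟶ Y} {g' : W' ⟶ Y'} (p : W' ⟶ W) {q : Y' ⟶ Y}
  (w : p ≫ g = g' ≫ q)

/-- tuples along a square -/
def pushTup {n : ℕ} {T : C} (x : Tup g' n T) : Tup g n T :=
  ⟨fun k => x.1 k ≫ p, fun k => by rw [Category.assoc, Category.assoc, w, reassoc_of% (x.2 k)]⟩

theorem pushTup_comp {n : ℕ} {T T' : C} (h : T' ⟶ T) (x : Tup g' n T) :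
    pushTup p w (x.comp h) = (pushTup p w x).comp h := Subtype.ext (funext fun _ => Category.assoc _ _ _)

universe w₀

variable {P : Cᵒᵖ ⥤ AddCommGrpCat.{w₀}}

/-- restriction of cochains along a square -/
def restr {n : ℕ} (c : Cochain g P n) : Cochain g' P n where
  val T x := c.val T (pushTup p w x)
  nat h x := by rw [c.nat, ← pushTup_comp]

theorem restr_d {n : ℕ} (c : Cochain g P n) (T : C) (x : Tup g' (n + 1) T) :
    (restr p w c).d.val T x = c.d.val T (pushTup p w x) := rfl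

end Restr

variable {S : Scheme.{u}}

/-- finite flat covers -/
structure FFF {W Y : Over S} (g : W ⟶ Y) : Prop where
  fin : IsFinite g.left
  flat : Flat g.left
  lfp : LocallyOfFinitePresentation g.left
  surj : Surjective g.left

/-- a property holds étale locally -/
def EtLoc (Y : Over S) (Q : ∀ ⦃Y' : Over S⦄, (Y' ⟶ Y) → Prop) : Prop :=
  ∀ y : Y.left, ∃ (Y' : Over S) (e : Y' ⟶ Y), Etale e.left ∧ y ∈ Set.range e.left ∧ Q e

theorem isPullback_left {W Y Y' W' : Over S} {p : W' ⟶ W} {g' : W' ⟶ Y'} {g : W ⟶ Y} {e : Y' ⟶ Y}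
    (h : IsPullback p g' g e) : IsPullback p.left g'.left g.left e.left := h.map (Over.forget S)

theorem FFF.pullback_snd {W Y Y' : Over S} {g : W ⟶ Y} (hg : FFF g) (e : Y' ⟶ Y) : FFF (pullback.snd g e) :=
  have h := isPullback_left (IsPullback.of_hasPullback g e)
  ⟨MorphismProperty.of_isPullback (P := @IsFinite) h hg.fin,
    MorphismProperty.of_isPullback (P := @Flat) h hg.flat,
    MorphismProperty.of_isPullback (P := @LocallyOfFinitePresentation) h hg.lfp,
    MorphismProperty.of_isPullback (P := @Surjective) h hg.surj⟩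

/-- étale locally exact Čech complexes -/
def Acyc (G : EtFppf.AbF S) : Prop :=
  ∀ ⦃W Y : Over S⦄ (g : W ⟶ Y), FFF g → ∀ (n : ℕ) (c : Cochain g G.obj (n + 1)), (∀ T x, c.d.val T x = 0) →
    EtLoc Y fun Y' e => ∃ b : Cochain (pullback.snd g e) G.obj n,
      ∀ T x, b.d.val T x = (restr (pullback.fst g e) pullback.condition c).val T x

theorem eq_of_cover {G : EtFppf.AbF S} {U : Over S} {R : Sieve U} (hR : R ∈ EtFppf.J S U)
    (a b : G.obj.obj (op U)) (h : ∀ ⦃Z : Over S⦄ (f : Z ⟶ U), R f → G.obj.map f.op a = G.obj.map f.op b) : a = b :=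
  CmpBig24.sep hR a b h

theorem mem_fppf_single {W Y : Over S} {g : W ⟶ Y} (hg : FFF g) :
    Sieve.ofArrows (fun _ : PUnit.{1} => W) (fun _ => g) ∈ EtFppf.J S Y := by
  haveI := hg.flat; haveI := hg.lfp; haveI := hg.surj
  rw [GrothendieckTopology.mem_over_iff, Sieve.overEquiv_ofArrows]
  exact Precoverage.generate_mem_toGrothendieck
    ((Scheme.ofArrows_mem_precoverage_iff _).2 ⟨fun x => ⟨PUnit.unit, g.left.surjective x⟩, fun _ => ⟨hg.flat, hg.lfp⟩⟩)

theorem subsingleton_of_isEmpty (G : EtFppf.AbF S) (U : Over S) [IsEmpty U.left] :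
    Subsingleton (G.obj.obj (op U)) := by
  refine ⟨fun a b => eq_of_cover (R := ⊥) ?_ a b fun Z f hf => False.elim hf⟩
  rw [GrothendieckTopology.mem_over_iff]
  refine GrothendieckTopology.superset_covering _ bot_le (GrothendieckTopology.superset_covering _ ?_
    (Precoverage.generate_mem_toGrothendieck (Scheme.bot_mem_precoverage _ U.left)))
  rw [Sieve.generate_bot]

section Lifting

variable {I C : EtFppf.AbF S} (π : I ⟶ C)

/-- sections lift étale locally -/
def EtLifts {U : Over S} (x : C.obj.obj (op U)) : Prop :=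
  EtLoc U fun U' e => ∃ t : I.obj.obj (op U'), π.hom.app (op U') t = C.obj.map e.op x

/-- lifts along a finite morphism can be chosen global, étale locally on the base -/
theorem exists_lift_finite {R Y : Over S} (r : R ⟶ Y) [IsFinite r.left] (x : C.obj.obj (op R))
    (hx : EtLifts π x) :
    EtLoc Y fun Y' e => ∃ t : I.obj.obj (op (pullback r e)),
      π.hom.app _ t = C.obj.map (pullback.fst r e).op x := by
  intro y
  let Q : ∀ ⦃Z : Scheme.{u}⦄, (Z ⟶ R.left) → Prop := fun Z e =>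
    ∃ t : I.obj.obj (op (Over.mk (e ≫ R.hom))),
      π.hom.app _ t = C.obj.map (Over.homMk e rfl : Over.mk (e ≫ R.hom) ⟶ R).op x
  obtain ⟨U, g, hg, hy, κ, P, hP, hlift⟩ := exists_split r.left Q (fun z => by
    obtain ⟨U', e, he, hz, t, ht⟩ := hx z
    let a : Over.mk (e.left ≫ R.hom) ⟶ U' := Over.homMk (𝟙 _) (by simp)
    refine ⟨U'.left, e.left, he, ⟨I.obj.map a.op t, ?_⟩, hz⟩
    rw [NatTrans.naturality_apply, ht, ← ConcreteCategory.comp_apply, ← Functor.map_comp, ← op_comp]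
    congr 4) y
  let Y' : Over S := Over.mk (g ≫ Y.hom)
  let e : Y' ⟶ Y := Over.homMk g rfl
  refine ⟨Y', e, hg, hy, ?_⟩
  let W := pullback r e
  have hpb := isPullback_left (IsPullback.of_hasPullback r e)
  let i : W.left ⟶ pullback r.left g := hpb.isoPullback.hom
  haveI : IsIso i := inferInstanceAs (IsIso hpb.isoPullback.hom)
  let O : κ → W.left.Opens := fun l => i ⁻¹ᵁ P l
  let Ob : κ → Over S := fun l => Over.mk ((O l).ι ≫ W.hom)
  let ι : ∀ l, Ob l ⟶ W := fun l => Over.homMk (O l).ι rfl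
  have hcov : Sieve.ofArrows Ob ι ∈ EtFppf.J S W := by
    rw [GrothendieckTopology.mem_over_iff, Sieve.overEquiv_ofArrows]
    refine Precoverage.generate_mem_toGrothendieck (Scheme.zariskiPrecoverage_le_fppfPrecoverage _
      ((Scheme.ofArrows_mem_precoverage_iff _).2 ⟨fun z => ?_, fun l => inferInstanceAs (IsOpenImmersion (O l).ι)⟩))
    obtain ⟨l, hl, -⟩ := hP (i z)
    exact ⟨l, ⟨z, hl⟩, rfl⟩
  have key : ∀ l, ∃ t : I.obj.obj (op (Ob l)),
      π.hom.app _ t = C.obj.map (ι l).op (C.obj.map (pullback.fst r e).op x) := fun l => by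
    obtain ⟨Z, d, σ, ⟨t, ht⟩, hσ⟩ := hlift l
    have hs : ((i ∣_ P l) ≫ σ) ≫ d = (O l).ι ≫ (pullback.fst r e).left := by
      rw [Category.assoc, hσ, morphismRestrict_ι_assoc]
      exact congrArg ((O l).ι ≫ ·) hpb.isoPullback_hom_fst
    let a : Ob l ⟶ Over.mk (d ≫ R.hom) := Over.homMk ((i ∣_ P l) ≫ σ) (by
      show ((i ∣_ P l) ≫ σ) ≫ d ≫ R.hom = (O l).ι ≫ W.hom
      rw [← Category.assoc, hs, Category.assoc, Over.w])
    refine ⟨I.obj.map a.op t, ?_⟩
    rw [NatTrans.naturality_apply, ht, ← ConcreteCategory.comp_apply, ← Functor.map_comp, ← op_comp,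
      ← ConcreteCategory.comp_apply, ← Functor.map_comp, ← op_comp]
    congr 4
    exact Over.OverMorphism.ext hs
  choose t ht using key
  have hsh := ((isSheaf_iff_isSheaf_of_type _ _).1
    ((Presheaf.isSheaf_iff_isSheaf_forget _ I.obj (forget AddCommGrpCat.{u + 1})).1 I.property)) _ hcov
  rw [← Presieve.isSheafFor_iff_generate] at hsh
  have hcompat : Presieve.Arrows.Compatible (I.obj ⋙ forget AddCommGrpCat.{u + 1}) ι t := by
    intro l l' Z a a' haa
    by_cases hll : l = l'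
    · subst hll
      have : a = a' := Over.OverMorphism.ext ((cancel_mono (O l).ι).1 (congrArg CommaMorphism.left haa))
      rw [this]
    · haveI : IsEmpty Z.left := ⟨fun z => hll ((hP (i ((O l).ι (a.left z)))).unique (a.left z).2 (by
        have h : (O l).ι (a.left z) = (O l').ι (a'.left z) :=
          congrArg (fun q : Z ⟶ W => q.left z) haa
        rw [h]; exact (a'.left z).2))⟩
      exact (subsingleton_of_isEmpty I Z).elim _ _
  obtain ⟨s, hs, -⟩ := (Presieve.isSheafFor_arrows_iff _ _).1 hsh t hcompat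
  refine ⟨s, eq_of_cover hcov _ _ ?_⟩
  rintro Z f ⟨Z', q, g', hg', rfl⟩
  obtain ⟨l⟩ := hg'
  rw [op_comp, Functor.map_comp_apply, Functor.map_comp_apply]
  refine congrArg (C.obj.map q.op) ?_
  rw [← NatTrans.naturality_apply, show I.obj.map (ι l).op s = t l from hs l, ht]

end Lifting

/-- an fppf cover is refined near a point by an étale neighbourhood, a finite flat cover and an open cover -/
theorem exists_refine {U : Scheme.{u}} (R : Sieve U) (hR : R ∈ Scheme.fppfPrecoverage.toGrothendieck U) (y : U) :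
    ∃ (V : Scheme.{u}) (e : V ⟶ U), Etale e ∧ y ∈ Set.range e ∧
      ∃ (W : Scheme.{u}) (π : W ⟶ V), IsFinite π ∧ Flat π ∧ LocallyOfFinitePresentation π ∧ Surjective π ∧
        ∀ z : W, ∃ O : W.Opens, z ∈ O ∧ R (O.ι ≫ π ≫ e) := by
  obtain ⟨R₀, hR₀, hle⟩ := Precoverage.mem_toGrothendieck_iff_of_isStableUnderComposition.1 hR
  have hP := hR₀.2
  have hcov : ∀ x : U, ∃ (Z : Scheme.{u}) (g : Z ⟶ U), R₀ g ∧ x ∈ Set.range g := fun x => by
    obtain ⟨Z, g, hg, y, hy⟩ := Scheme.JointlySurjective.exists_eq R₀ hR₀ x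
    exact ⟨Z, g, hg, y, hy⟩
  choose Z g hg hgx using hcov
  haveI : ∀ x, Flat (g x) := fun x => (hP (hg x)).1
  haveI : ∀ x, LocallyOfFinitePresentation (g x) := fun x => (hP (hg x)).2
  haveI : Flat (Sigma.desc g) := IsZariskiLocalAtSource.sigmaDesc (fun _ => inferInstance)
  haveI : LocallyOfFinitePresentation (Sigma.desc g) := IsZariskiLocalAtSource.sigmaDesc (fun _ => inferInstance)
  haveI : Surjective (Sigma.desc g) := Surjective.sigmaDesc_of_union_range_eq_univ
    (Set.eq_univ_of_forall fun x => Set.mem_iUnion.2 ⟨x, hgx x⟩)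
  obtain ⟨V, W, e, π, he, hye, hπs, hπf, hπfl, hπlfp, hloc⟩ := Groth.Agent.S1379.result (Sigma.desc g) y
  refine ⟨V, e, he, hye, W, π, hπf, hπfl, hπlfp, hπs, fun z => ?_⟩
  obtain ⟨O, r, hz, hr⟩ := hloc z
  obtain ⟨x, z', hz'⟩ := (sigmaOpenCover Z).exists_eq (r ⟨z, hz⟩)
  let ι := Sigma.ι Z x
  let O' : W.Opens := O.ι ''ᵁ (r ⁻¹ᵁ ι.opensRange)
  have hO' : O' ≤ O := by
    rintro _ ⟨y, -, rfl⟩
    exact y.2
  let a := W.homOfLE hO'
  have ha : Set.range (a ≫ r) ⊆ Set.range ι := by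
    rintro _ ⟨⟨y, y', hy', rfl⟩, rfl⟩
    have : a ⟨O.ι y', y', hy', rfl⟩ = y' := O.ι.isOpenEmbedding.injective
      ((Scheme.Hom.comp_apply _ _ _).symm.trans (congrArg (fun f => f ⟨O.ι y', y', hy', rfl⟩) (W.homOfLE_ι hO')))
    refine (?_ : r _ ∈ Set.range ι)
    erw [this]
    exact hy'
  refine ⟨O', ⟨⟨z, hz⟩, ⟨z', hz'⟩, rfl⟩, ?_⟩
  have h : IsOpenImmersion.lift ι (a ≫ r) ha ≫ g x = O'.ι ≫ π ≫ e := by
    rw [show g x = ι ≫ Sigma.desc g from (Sigma.ι_desc g x).symm, IsOpenImmersion.lift_fac_assoc,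
      Category.assoc, hr, Scheme.homOfLE_ι_assoc]
  rw [← h]
  exact R.downward_closed (hle _ _ (hg x)) _

theorem d_zero {W Y : Over S} {g : W ⟶ Y} {P : (Over S)ᵒᵖ ⥤ AddCommGrpCat.{u + 1}} (c : Cochain g P 0)
    (T : Over S) (t : Tup g 1 T) : c.d.val T t = c.val T (t.face 0) - c.val T (t.face 1) := by
  simp [Cochain.d, Fin.sum_univ_two, sub_eq_add_neg]

section Step

variable {K : ShortComplex (EtFppf.AbF S)} (hK : K.ShortExact) (hG : Acyc K.X₁)

/-- a power of a finite morphism -/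
theorem exists_pow {W Y : Over S} (g : W ⟶ Y) [IsFinite g.left] : ∀ n : ℕ,
    ∃ (p : ProEtEps19.Pow g n) (r : p.R ⟶ Y), p.u.1 0 ≫ g = r ∧ IsFinite r.left := by
  intro n
  induction n with
  | zero =>
    refine ⟨⟨W, ⟨fun _ => 𝟙 W, fun _ => rfl⟩, fun x => x.1 0, fun x => Subtype.ext (funext fun k => ?_),
      fun a b h => ?_⟩, g, Category.id_comp g, ‹_›⟩
    · obtain rfl : k = 0 := Fin.fin_one_eq_zero k
      exact Category.comp_id _
    · simpa [Tup.comp] using congrArg (fun x => x.1 0) h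
  | succ n ih =>
    obtain ⟨p, r, hr, hrf⟩ := ih
    refine ⟨⟨pullback g r, ⟨Fin.cons (pullback.fst g r) fun k => pullback.snd g r ≫ p.u.1 k, ?_⟩,
      fun x => pullback.lift (x.1 0) (p.lift (x.face 0)) ?_,
      fun x => ?_, fun a b h => ?_⟩, pullback.fst g r ≫ g, rfl, ?_⟩
    · intro k
      induction k using Fin.cases with
      | zero => rfl
      | succ k =>
        simp only [Fin.cons_succ, Fin.cons_zero, Category.assoc]
        rw [p.u.2 k, hr, pullback.condition]
    · have h := congrArg (fun q => q.1 0 ≫ g) (p.fac (x.face 0))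
      simp only [Tup.comp, Category.assoc] at h
      rw [hr] at h
      rw [h]
      exact (x.2 _).symm
    · refine Subtype.ext (funext fun k => ?_)
      induction k using Fin.cases with
      | zero => simp [Tup.comp]
      | succ k =>
        simp only [Tup.comp, Fin.cons_succ]
        rw [pullback.lift_snd_assoc]
        have h := congrArg (fun q => q.1 k) (p.fac (x.face 0))
        simpa [Tup.comp, Tup.face] using h
    · refine pullback.hom_ext ?_ (p.hom_ext _ _ (Subtype.ext (funext fun k => ?_)))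
      · simpa [Tup.comp] using congrArg (fun q => q.1 0) h
      · simpa [Tup.comp] using congrArg (fun q => q.1 k.succ) h
    · haveI : IsFinite (pullback.fst g r).left :=
        MorphismProperty.of_isPullback (P := @IsFinite) (isPullback_left (IsPullback.of_hasPullback g r)).flip hrf
      exact inferInstanceAs (IsFinite ((pullback.fst g r).left ≫ g.left))

include hK in
theorem exists_cochain {W Y : Over S} {g : W ⟶ Y} {n : ℕ} (c : Cochain g K.X₂.obj n)
    (h : ∀ T x, K.g.hom.app (op T) (c.val T x) = 0) :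
    ∃ a : Cochain g K.X₁.obj n, ∀ T x, K.f.hom.app (op T) (a.val T x) = c.val T x := by
  haveI := hK.mono_f
  choose a ha using fun T x => CmpBig24.exists_lift_of_exact K.f K.g K.zero hK.exact (c.val T x) (h T x)
  refine ⟨⟨a, fun {T T'} k x => CmpBig24.sec_injective K.f T' ?_⟩, ha⟩
  rw [NatTrans.naturality_apply, ha, ha, c.nat]

include hK hG in
theorem etLifts_of_acyc {Y : Over S} (x : K.X₃.obj.obj (op Y)) : EtLifts K.g x := by
  intro y
  haveI := hK.epi_g
  have hS := (CmpBig24.epi_iff_lifts K.g).1 inferInstance Y x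
  obtain ⟨V, v, hv, ⟨y₀, rfl⟩, W₀, w₀, hf₁, hf₂, hf₃, hf₄, hSk⟩ :=
    exists_refine _ ((GrothendieckTopology.mem_over_iff _ _).1 hS) y
  let Y₁ : Over S := Over.mk (v ≫ Y.hom)
  let W : Over S := Over.mk (w₀ ≫ Y₁.hom)
  let g : W ⟶ Y₁ := Over.homMk w₀ rfl
  have hg : FFF g := ⟨hf₁, hf₂, hf₃, hf₄⟩
  haveI := hg.fin
  let x₁ := K.X₃.obj.map (Over.homMk v rfl : Y₁ ⟶ Y).op x
  have hW : EtLifts K.g (K.X₃.obj.map g.op x₁) := fun z => by
    obtain ⟨O, hzO, hO⟩ := hSk z
    obtain ⟨t, ht⟩ := (Sieve.overEquiv_iff _ _).1 hO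
    let a : Over.mk (O.ι ≫ W.hom) ⟶ Over.mk ((O.ι ≫ w₀ ≫ v) ≫ Y.hom) := Over.homMk (𝟙 _) (by
      show 𝟙 _ ≫ (O.ι ≫ w₀ ≫ v) ≫ Y.hom = O.ι ≫ w₀ ≫ v ≫ Y.hom
      simp only [Category.id_comp, Category.assoc])
    refine ⟨Over.mk (O.ι ≫ W.hom), Over.homMk O.ι rfl, inferInstanceAs (Etale O.ι), ⟨⟨z, hzO⟩, rfl⟩,
      K.X₂.obj.map a.op t, ?_⟩
    refine ((NatTrans.naturality_apply K.g.hom a.op t).trans (congrArg _ ht)).trans ?_
    simp only [x₁, ← ConcreteCategory.comp_apply, ← Functor.map_comp, ← op_comp]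
    congr 4
  obtain ⟨Y₂, e₂, he₂, ⟨y₂, hy₂⟩, t, ht⟩ := exists_lift_finite K.g g _ hW y₀
  let g₂ := pullback.snd g e₂
  have hg₂ : FFF g₂ := hg.pullback_snd e₂
  let c₀ : Cochain g₂ K.X₂.obj 0 :=
    { val := fun T u => K.X₂.obj.map (u.1 0).op t
      nat := fun h u => by rw [← Functor.map_comp_apply, ← op_comp]; rfl }
  let x₂ := K.X₃.obj.map e₂.op x₁
  have hc₀ : ∀ T u, K.g.hom.app (op T) (c₀.val T u) = K.X₃.obj.map (u.1 0 ≫ g₂).op x₂ := fun T u => by
    show K.g.hom.app (op T) (K.X₂.obj.map (u.1 0).op t) = _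
    rw [NatTrans.naturality_apply, ht]
    simp only [x₂, g₂, ← ConcreteCategory.comp_apply, ← Functor.map_comp, ← op_comp, Category.assoc,
      pullback.condition]
  obtain ⟨a, ha⟩ := exists_cochain hK c₀.d (fun T u => by
    rw [d_zero c₀ T u, map_sub, hc₀, hc₀, sub_eq_zero]
    exact congrArg (fun q => K.X₃.obj.map (Quiver.Hom.op q) x₂) ((u.2 _).trans (u.2 _).symm))
  have hda : ∀ T u, a.d.val T u = 0 := fun T u => by
    haveI := hK.mono_f
    refine CmpBig24.sec_injective K.f T ?_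
    rw [map_zero, ← Cochain.push_d, show a.push K.f.hom = c₀.d from Cochain.ext ha]
    exact Cochain.d_d c₀ T u
  obtain ⟨Y₃, e₃, he₃, hy₃, b, hb⟩ := hG g₂ hg₂ 0 a hda y₂
  let g₃ := pullback.snd g₂ e₃
  let c := (restr (pullback.fst g₂ e₃) pullback.condition c₀).sub (b.push K.f.hom)
  have hc : ∀ T u, c.d.val T u = 0 := fun T u => by
    show ((restr (pullback.fst g₂ e₃) pullback.condition c₀).sub (b.push K.f.hom)).d.val T u = 0
    rw [Cochain.sub_d, Cochain.push_d, hb, restr_d]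
    show c₀.d.val T _ - K.f.hom.app (op T) (a.val T _) = 0
    rw [ha, sub_self]
  let W₃ := pullback g₂ e₃
  let u₀ : Tup g₃ 0 W₃ := ⟨fun _ => 𝟙 W₃, fun _ => rfl⟩
  let w := c.val W₃ u₀
  have hw : ∀ T (q₁ q₂ : T ⟶ W₃), q₁ ≫ g₃ = q₂ ≫ g₃ → K.X₂.obj.map q₁.op w = K.X₂.obj.map q₂.op w := by
    intro T q₁ q₂ hq
    let u : Tup g₃ 1 T := ⟨![q₁, q₂], fun k => by
      fin_cases k
      · rfl
      · exact hq.symm⟩
    have h0 : (u.face 0) = Tup.comp q₂ u₀ := Subtype.ext (funext fun k => by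
      obtain rfl : k = 0 := Fin.fin_one_eq_zero k
      exact (Category.comp_id q₂).symm)
    have h1 : (u.face 1) = Tup.comp q₁ u₀ := Subtype.ext (funext fun k => by
      obtain rfl : k = 0 := Fin.fin_one_eq_zero k
      exact (Category.comp_id q₁).symm)
    have h := hc T u
    erw [d_zero c T u] at h
    rw [h0, h1, sub_eq_zero, ← c.nat, ← c.nat] at h
    exact h.symm
  have hcov₃ := mem_fppf_single (hg₂.pullback_snd e₃)
  have hsh := ((isSheaf_iff_isSheaf_of_type _ _).1
    ((Presheaf.isSheaf_iff_isSheaf_forget _ K.X₂.obj (forget AddCommGrpCat.{u + 1})).1 K.X₂.property)) _ hcov₃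
  rw [← Presieve.isSheafFor_iff_generate] at hsh
  obtain ⟨s, hs, -⟩ := (Presieve.isSheafFor_arrows_iff _ _).1 hsh (fun _ => w) fun _ _ T q₁ q₂ hq => hw T q₁ q₂ hq
  let e := e₃ ≫ e₂ ≫ (Over.homMk v rfl : Y₁ ⟶ Y)
  refine ⟨Y₃, e, ?_, ?_, s, eq_of_cover hcov₃ _ _ ?_⟩
  · haveI := he₂; haveI := he₃
    haveI := hv
    exact inferInstanceAs (Etale (e₃.left ≫ e₂.left ≫ v))
  · obtain ⟨y₃, hy₃⟩ := hy₃
    refine ⟨y₃, ?_⟩
    show (e₃.left ≫ e₂.left ≫ v) y₃ = _
    rw [Scheme.Hom.comp_apply, Scheme.Hom.comp_apply, hy₃, hy₂] <;> rfl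
  rintro T f ⟨T', q, g', hg', rfl⟩
  obtain ⟨i⟩ := hg'
  rw [op_comp, Functor.map_comp_apply, Functor.map_comp_apply]
  refine congrArg (K.X₃.obj.map q.op) ?_
  rw [← NatTrans.naturality_apply, show K.X₂.obj.map g₃.op s = w from hs i]
  show K.g.hom.app _ (c₀.val W₃ _ - K.f.hom.app _ (b.val W₃ u₀)) = _
  have h0 : K.g.hom.app (op W₃) (K.f.hom.app (op W₃) (b.val W₃ u₀)) = 0 := CmpBig24.app_zero K.zero W₃ _
  rw [map_sub, h0, sub_zero, hc₀]
  simp only [x₂, x₁, e, ← ConcreteCategory.comp_apply, ← Functor.map_comp, ← op_comp, Category.assoc]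
  congr 4
  show (𝟙 W₃ ≫ pullback.fst g₂ e₃) ≫ g₂ ≫ _ = g₃ ≫ _
  rw [Category.id_comp, reassoc_of% (pullback.condition (f := g₂) (g := e₃))]

include hK hG in
/-- the property passes to cokernels of maps to injectives -/
theorem acyc_quotient [Injective K.X₂] : Acyc K.X₃ := by
  intro W Y g hg n c hc y
  haveI := hg.fin
  haveI := hK.mono_f
  obtain ⟨p, r, hr, hrf⟩ := exists_pow g (n + 1)
  obtain ⟨Y₁, e₁, he₁, ⟨y₁, hy₁⟩, t, ht⟩ :=
    exists_lift_finite K.g r (c.val p.R p.u) (etLifts_of_acyc hK hG _) y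
  let g₁ := pullback.snd g e₁
  let lu : ∀ {T : Over S} (u : Tup g₁ (n + 1) T), T ⟶ pullback r e₁ := fun {T} u =>
    pullback.lift (p.lift (pushTup (pullback.fst g e₁) pullback.condition u)) (u.1 0 ≫ g₁) (by
      have h := congrArg (fun q => q.1 0 ≫ g) (p.fac (pushTup (pullback.fst g e₁) pullback.condition u))
      simp only [Tup.comp, pushTup, Category.assoc] at h
      rw [hr, pullback.condition] at h
      rw [Category.assoc]
      exact h)
  let c₁ : Cochain g₁ K.X₂.obj (n + 1) :=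
    { val := fun T u => K.X₂.obj.map (lu u).op t
      nat := fun {T T'} h u => by
        rw [← Functor.map_comp_apply, ← op_comp]
        refine congrArg (fun q : T' ⟶ pullback r e₁ => K.X₂.obj.map q.op t) (pullback.hom_ext ?_ ?_)
        · simp only [lu, Category.assoc, pullback.lift_fst]
          refine p.hom_ext _ _ ?_
          rw [← Tup.comp_comp, p.fac, p.fac, pushTup_comp]
        · simp only [lu, Category.assoc, pullback.lift_snd]
          exact (Category.assoc _ _ _).symm }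
  have hc₁ : ∀ T u, K.g.hom.app (op T) (c₁.val T u) =
      (restr (pullback.fst g e₁) pullback.condition c).val T u := fun T u => by
    show K.g.hom.app (op T) (K.X₂.obj.map (lu u).op t) = c.val T _
    rw [NatTrans.naturality_apply, ht, ← Functor.map_comp_apply, ← op_comp]
    show K.X₃.obj.map (lu u ≫ pullback.fst r e₁).op _ = _
    rw [pullback.lift_fst, c.nat, p.fac]
  obtain ⟨a, ha⟩ := exists_cochain hK c₁.d (fun T u => by
    rw [← Cochain.push_d, show c₁.push K.g.hom = restr (pullback.fst g e₁) pullback.condition c from Cochain.ext hc₁,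
      restr_d]
    exact hc _ _)
  have hda : ∀ T u, a.d.val T u = 0 := fun T u => by
    refine CmpBig24.sec_injective K.f T ?_
    rw [map_zero, ← Cochain.push_d, show a.push K.f.hom = c₁.d from Cochain.ext ha]
    exact Cochain.d_d c₁ T u
  obtain ⟨Y₂, e₂, he₂, hy₂, b, hb⟩ := hG g₁ (hg.pullback_snd e₁) (n + 1) a hda y₁
  let g₂ := pullback.snd g₁ e₂
  let d := (restr (pullback.fst g₁ e₂) pullback.condition c₁).sub (b.push K.f.hom)
  have hd : ∀ T u, d.d.val T u = 0 := fun T u => by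
    show ((restr (pullback.fst g₁ e₂) pullback.condition c₁).sub (b.push K.f.hom)).d.val T u = 0
    rw [Cochain.sub_d, Cochain.push_d, hb, restr_d]
    show c₁.d.val T _ - K.f.hom.app (op T) (a.val T _) = 0
    rw [ha, sub_self]
  haveI : Injective K.X₂.obj :=
    Injective.injective_of_adjoint (sheafificationAdjunction (EtFppf.J S) AddCommGrpCat.{u + 1}) K.X₂
  obtain ⟨b', hb'⟩ := ProEtEps19.cechExact_injective.{u + 1} (g := g₂) (I := K.X₂.obj) n d hd
  let m : pullback g (e₂ ≫ e₁) ⟶ pullback g₁ e₂ :=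
    pullback.lift (pullback.lift (pullback.fst g (e₂ ≫ e₁)) (pullback.snd g (e₂ ≫ e₁) ≫ e₂)
      (by rw [pullback.condition, Category.assoc])) (pullback.snd g (e₂ ≫ e₁)) (pullback.lift_snd _ _ _)
  have wm : m ≫ g₂ = pullback.snd g (e₂ ≫ e₁) ≫ 𝟙 Y₂ := by
    simp [m, g₂]
  obtain ⟨y₂, hy₂⟩ := hy₂
  refine ⟨Y₂, e₂ ≫ e₁, ?_, ⟨y₂, by rw [Over.comp_left, Scheme.Hom.comp_apply, hy₂, hy₁]⟩,
    restr m wm (b'.push K.g.hom), fun T u => ?_⟩
  · haveI := he₁; haveI := he₂
    exact inferInstanceAs (Etale (e₂.left ≫ e₁.left))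
  · rw [restr_d, Cochain.push_d, hb']
    show K.g.hom.app _ (c₁.val T _ - K.f.hom.app _ (b.val T _)) = c.val T _
    rw [map_sub, CmpBig24.app_zero K.zero, sub_zero, hc₁]
    show c.val T _ = c.val T _
    refine congrArg (c.val T) (Subtype.ext (funext fun k => ?_))
    simp [pushTup, m]

end Step

end Groth.Agent.SmoothDesc24
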