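import Mathlib.AlgebraicGeometry.Pullbacks
import Mathlib.AlgebraicGeometry.Morphisms.Flat
import Mathlib.AlgebraicGeometry.Morphisms.Finite
import Mathlib.AlgebraicGeometry.Morphisms.FinitePresentation
import Mathlib.RingTheory.Spectrum.Prime.FreeLocus
import Mathlib.RingTheory.Localization.BaseChange
import Mathlib.RingTheory.Flat.FaithfullyFlat.Algebra
import Mathlib.RingTheory.Finiteness.ModuleFinitePresentation
import Mathlib.AlgebraicGeometry.Morphisms.Etale

/-! Finite flat covers are free on small affine charts. -/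

universe u

open CategoryTheory CategoryTheory.Limits AlgebraicGeometry TensorProduct

set_option linter.style.haveILetI false
set_option backward.isDefEq.respectTransparency false
set_option backward.isDefEq.respectTransparency.types false

namespace Groth.Agent.SmoothDesc24

theorem exists_free_away {R M : Type u} [CommRing R] [AddCommGroup M] [Module R M] [Module.FinitePresentation R M]
    [Module.Flat R M] (p : PrimeSpectrum R) :
    ∃ r : R, r ∉ p.asIdeal ∧ Module.Free (Localization.Away r) (Localization.Away r ⊗[R] M) := by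
  haveI : Module.Free (Localization.AtPrime p.asIdeal) (LocalizedModule p.asIdeal.primeCompl M) :=
    Module.mem_freeLocus.1 ((Module.freeLocus_eq_univ (R := R) (M := M)).ge (Set.mem_univ p))
  obtain ⟨r, hr, hfree, -⟩ := Module.FinitePresentation.exists_free_localizedModule_powers p.asIdeal.primeCompl
    (LocalizedModule.mkLinearMap p.asIdeal.primeCompl M) (Localization.AtPrime p.asIdeal)
  have hb : IsBaseChange (Localization.Away r) (LocalizedModule.mkLinearMap (.powers r) M) :=
    IsLocalizedModule.isBaseChange (.powers r) (Localization.Away r) _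
  haveI := hfree
  exact ⟨r, hr, Module.Free.of_equiv hb.equiv.symm⟩

/-- near every point a finite flat surjection is `Spec` of a finite free faithfully flat algebra -/
theorem exists_chart {W Y : Scheme.{u}} (f : W ⟶ Y) [IsFinite f] [Flat f] [LocallyOfFinitePresentation f]
    [Surjective f] (y : Y) :
    ∃ (R : Type u) (_ : CommRing R) (B : Type u) (_ : CommRing B) (_ : Algebra R B)
      (j : Spec (CommRingCat.of R) ⟶ Y) (q : Spec (CommRingCat.of B) ⟶ W),
      Module.Free R B ∧ Module.Finite R B ∧ Module.FaithfullyFlat R B ∧ Etale j ∧ y ∈ Set.range j ∧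
        IsPullback q (Spec.map (CommRingCat.ofHom (algebraMap R B))) f j := by
  obtain ⟨V, hV, hyV, -⟩ := exists_isAffineOpen_mem_and_subset (X := Y) (x := y) (U := ⊤) trivial
  haveI := hV
  let j₀ := hV.fromSpec
  haveI : IsAffine (pullback f j₀) := isAffine_of_isAffineHom (pullback.snd f j₀)
  let R₀ := Γ(Y, V)
  let B₀ := Γ(pullback f j₀, ⊤)
  let φ : R₀ ⟶ B₀ := Spec.preimage ((pullback f j₀).isoSpec.inv ≫ pullback.snd f j₀)
  have hφ : Spec.map φ = (pullback f j₀).isoSpec.inv ≫ pullback.snd f j₀ := Spec.map_preimage _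
  letI : Algebra R₀ B₀ := φ.hom.toAlgebra
  haveI : IsFinite (Spec.map φ) := by rw [hφ]; infer_instance
  haveI : Flat (Spec.map φ) := by rw [hφ]; infer_instance
  haveI : LocallyOfFinitePresentation (Spec.map φ) := by rw [hφ]; infer_instance
  haveI : Surjective (Spec.map φ) := by rw [hφ]; infer_instance
  haveI : Module.Finite R₀ B₀ := RingHom.finite_algebraMap.1 ((IsFinite.SpecMap_iff φ).1 ‹_›)
  haveI : Module.Flat R₀ B₀ := RingHom.flat_algebraMap_iff.1 ((HasRingHomProperty.Spec_iff (P := @Flat)).1 ‹_›)
  haveI : Algebra.FinitePresentation R₀ B₀ :=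
    RingHom.finitePresentation_algebraMap.1 ((HasRingHomProperty.Spec_iff (P := @LocallyOfFinitePresentation)).1 ‹_›)
  haveI : Module.FinitePresentation R₀ B₀ := Module.FinitePresentation.of_finite_of_finitePresentation R₀ B₀
  obtain ⟨p, hp⟩ : y ∈ Set.range j₀ := by rw [hV.range_fromSpec]; exact hyV
  obtain ⟨r, hr, hfree⟩ := exists_free_away (M := B₀) p
  let R := Localization.Away r
  let B := R ⊗[R₀] B₀
  haveI : Module.Free R B := hfree
  let a : Spec (CommRingCat.of R) ⟶ Spec R₀ := Spec.map (CommRingCat.ofHom (algebraMap R₀ R))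
  let s : Spec (CommRingCat.of B) ⟶ Spec B₀ :=
    Spec.map (CommRingCat.ofHom (Algebra.TensorProduct.includeRight : B₀ →ₐ[R₀] B).toRingHom)
  have h₀ : IsPullback ((pullback f j₀).isoSpec.inv ≫ pullback.fst f j₀) (Spec.map φ) f j₀ :=
    IsPullback.of_iso (IsPullback.of_hasPullback f j₀) (pullback f j₀).isoSpec (Iso.refl _) (Iso.refl _) (Iso.refl _)
      (by simp) (by simp [hφ]) (by simp) (by simp)
  have h₁ : IsPullback s (Spec.map (CommRingCat.ofHom (algebraMap R B))) (Spec.map φ) a :=
    (isPullback_SpecMap_of_isPushout _ _ _ _ (CommRingCat.isPushout_tensorProduct R₀ R B₀)).flip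
  have hy : y ∈ Set.range (a ≫ j₀) := by
    have hp' : p ∈ Set.range a := by
      rw [show Set.range a = (PrimeSpectrum.basicOpen r : Set (PrimeSpectrum R₀)) from
        PrimeSpectrum.localization_away_comap_range R r]
      exact hr
    obtain ⟨v, hv⟩ := hp'
    exact ⟨v, by rw [Scheme.Hom.comp_apply, hv, hp]⟩
  have hsq := h₁.paste_horiz h₀
  haveI : Surjective (Spec.map (CommRingCat.ofHom (algebraMap R B))) :=
    MorphismProperty.of_isPullback (P := @Surjective) hsq ‹Surjective f›
  refine ⟨R, inferInstance, B, inferInstance, inferInstance, a ≫ j₀,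
    s ≫ (pullback f j₀).isoSpec.inv ≫ pullback.fst f j₀, hfree, inferInstance, ?_, ?_, hy, hsq⟩
  · exact Module.FaithfullyFlat.of_comap_surjective
      (Scheme.Hom.surjective (Spec.map (CommRingCat.ofHom (algebraMap R B))))
  · haveI : IsOpenImmersion a := IsOpenImmersion.of_isLocalization (f := r)
    infer_instance

end Groth.Agent.SmoothDesc24
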