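import Groth.Agent.Lib.SmoothDesc24.GmLocal
import Groth.Agent.Lib.SmoothDesc24.Chart
import Groth.Agent.Lib.SmoothDesc24.Cech
import Groth.Prelude.Def_EtDlF

/-! The multiplicative group is Čech acyclic for finite flat covers, étale locally. -/

universe u

open CategoryTheory CategoryTheory.Limits AlgebraicGeometry Opposite TensorProduct
open Groth.Agent.AmitsurCech12
open Groth.Agent.ProEtEps19 (Tup Cochain)

set_option linter.style.haveILetI false
set_option linter.unusedSectionVars false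
set_option backward.isDefEq.respectTransparency false
set_option backward.isDefEq.respectTransparency.types false

namespace Groth.Agent.SmoothDesc24

section Gamma

/-- the ring map of a morphism to an affine scheme -/
noncomputable def γ {T : Scheme.{u}} {A : Type u} [CommRing A] (f : T ⟶ Spec (CommRingCat.of A)) : A →+* Γ(T, ⊤) :=
  ((Scheme.ΓSpecIso (CommRingCat.of A)).inv ≫ f.appTop).hom

theorem γ_comp {T T' : Scheme.{u}} {A : Type u} [CommRing A] (h : T' ⟶ T) (f : T ⟶ Spec (CommRingCat.of A)) :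
    γ (h ≫ f) = h.appTop.hom.comp (γ f) := by
  simp only [γ, Scheme.Hom.comp_appTop]
  rfl

theorem γ_specMap {T : Scheme.{u}} {A A' : Type u} [CommRing A] [CommRing A'] (φ : A →+* A')
    (f : T ⟶ Spec (CommRingCat.of A')) :
    γ (f ≫ Spec.map (CommRingCat.ofHom φ)) = (γ f).comp φ := by
  rw [γ, Scheme.Hom.comp_appTop, ← Category.assoc, ← Scheme.ΓSpecIso_inv_naturality, Category.assoc,
    CommRingCat.hom_comp, CommRingCat.hom_ofHom]
  rfl

theorem γ_injective {T : Scheme.{u}} {A : Type u} [CommRing A] {f g : T ⟶ Spec (CommRingCat.of A)}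
    (h : γ f = γ g) : f = g :=
  ext_of_isAffine ((cancel_epi (Scheme.ΓSpecIso (CommRingCat.of A)).inv).1 (CommRingCat.hom_ext h))

theorem exists_hom_of_ringHom {T : Scheme.{u}} {A : Type u} [CommRing A] (φ : A →+* Γ(T, ⊤)) :
    ∃ f : T ⟶ Spec (CommRingCat.of A), γ f = φ := by
  refine ⟨T.toSpecΓ ≫ Spec.map (CommRingCat.ofHom φ), ?_⟩
  rw [γ_specMap, show γ T.toSpecΓ = RingHom.id _ from ?_, RingHom.id_comp]
  show ((Scheme.ΓSpecIso _).inv ≫ T.toSpecΓ.appTop).hom = _
  rw [Scheme.toSpecΓ_appTop, Iso.inv_hom_id]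
  rfl

end Gamma

variable {S : Scheme.{u}}

/-- units of the ring of a section of `G_m` -/
noncomputable def toU {U : Over S} : (EtDl.GmF S).obj.obj (op U) →+ Additive Γ(U.left, ⊤)ˣ :=
  AddMonoidHom.mk' (fun s => s.down) fun _ _ => rfl

/-- the section given by a unit -/
noncomputable def ofU {U : Over S} : Additive Γ(U.left, ⊤)ˣ →+ (EtDl.GmF S).obj.obj (op U) :=
  AddMonoidHom.mk' (fun s => ULift.up s) fun _ _ => rfl

theorem ofU_toU {U : Over S} (s : (EtDl.GmF S).obj.obj (op U)) : ofU (toU s) = s := rfl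

theorem toU_map {U V : Over S} (h : V ⟶ U) (s : (EtDl.GmF S).obj.obj (op U)) :
    toU ((EtDl.GmF S).obj.map h.op s) = uMap h.left.appTop.hom (toU s) := rfl

theorem map_ofU {U V : Over S} (h : V ⟶ U) (s : Additive Γ(U.left, ⊤)ˣ) :
    (EtDl.GmF S).obj.map h.op (ofU s) = ofU (uMap h.left.appTop.hom s) := rfl

variable {R B A : Type u} [CommRing R] [CommRing B] [Algebra R B] [CommRing A] [Algebra R A]

/-- ring maps out of `A ⊗ T` are determined on the factors -/
theorem ringHom_ext {M : Type u} [CommRing M] {n : ℕ} {φ ψ : TS R B A n →+* M}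
    (hA : ∀ a, φ (a ⊗ₜ 1) = ψ (a ⊗ₜ 1))
    (hB : ∀ i b, φ (1 ⊗ₜ leg R B n i b) = ψ (1 ⊗ₜ leg R B n i b)) : φ = ψ := by
  letI : Algebra R M := (φ.comp (algebraMap R (TS R B A n))).toAlgebra
  have h1 : ∀ r, φ (1 ⊗ₜ algebraMap R (T R B n) r) = ψ (1 ⊗ₜ algebraMap R (T R B n) r) := fun r => by
    rw [← AlgHom.commutes (leg R B n 0) r]; exact hB 0 _
  let φ' : T R B n →ₐ[R] M :=
    { φ.comp (Algebra.TensorProduct.includeRight : T R B n →ₐ[R] TS R B A n).toRingHom with
      commutes' := fun r => by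
        show φ (Algebra.TensorProduct.includeRight (algebraMap R (T R B n) r)) = φ (algebraMap R (TS R B A n) r)
        rw [AlgHom.commutes] }
  let ψ' : T R B n →ₐ[R] M :=
    { ψ.comp (Algebra.TensorProduct.includeRight : T R B n →ₐ[R] TS R B A n).toRingHom with
      commutes' := fun r => by
        show ψ (Algebra.TensorProduct.includeRight (algebraMap R (T R B n) r)) = φ (algebraMap R (TS R B A n) r)
        rw [← AlgHom.commutes (Algebra.TensorProduct.includeRight : T R B n →ₐ[R] TS R B A n)]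
        exact (h1 r).symm }
  have hT : ∀ t, φ (1 ⊗ₜ t) = ψ (1 ⊗ₜ t) := fun t => AlgHom.congr_fun (algHom_ext (φ := φ') (ψ := ψ') hB) t
  refine RingHom.ext fun x => ?_
  induction x using TensorProduct.induction_on with
  | zero => simp
  | tmul a t =>
    have : a ⊗ₜ[R] t = (a ⊗ₜ[R] (1 : T R B n)) * ((1 : A) ⊗ₜ[R] t) := by simp
    rw [this, map_mul, map_mul, hA, hT]
  | add p q hp hq => rw [map_add, map_add, hp, hq]

theorem exists_ψ {M : Type u} [CommRing M] {n : ℕ} (a : A →+* M) (b : Fin (n + 1) → (B →+* M))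
    (hab : ∀ i r, b i (algebraMap R B r) = a (algebraMap R A r)) :
    ∃ ψ : TS R B A n →+* M, (∀ x, ψ (x ⊗ₜ 1) = a x) ∧ ∀ i y, ψ (1 ⊗ₜ leg R B n i y) = b i y := by
  letI : Algebra R M := (a.comp (algebraMap R A)).toAlgebra
  let a' : A →ₐ[R] M := { a with commutes' := fun _ => rfl }
  let b' : Fin (n + 1) → (B →ₐ[R] M) := fun i => { b i with commutes' := fun r => hab i r }
  refine ⟨(Algebra.TensorProduct.productMap a' (AmitsurCech12.lift b')).toRingHom, fun x => ?_, fun i y => ?_⟩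
  · show Algebra.TensorProduct.productMap a' (AmitsurCech12.lift b') (x ⊗ₜ 1) = _
    simp [a']
  · show Algebra.TensorProduct.productMap a' (AmitsurCech12.lift b') (1 ⊗ₜ leg R B n i y) = _
    simp [b']

/-- `G_m` is Čech acyclic for finite flat covers, étale locally -/
theorem acyc_GmF (S : Scheme.{u}) : Acyc (EtDl.GmF S) := by
  intro W Y g hg n c hc y
  haveI := hg.fin; haveI := hg.flat; haveI := hg.lfp; haveI := hg.surj
  obtain ⟨R, _, B, _, _, j, q, hfree, hfin, hff, hj, ⟨p, hp⟩, hsq⟩ := exists_chart g.left y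
  haveI := hfree; haveI := hfin; haveI := hff; haveI := hj
  let Ob : ℕ → Over S := fun k =>
    Over.mk (Spec.map (CommRingCat.ofHom (algebraMap R (T R B k))) ≫ j ≫ Y.hom)
  have hleg : ∀ k (i : Fin (k + 1)), Spec.map (CommRingCat.ofHom (leg R B k i).toRingHom) ≫ q ≫ g.left =
      Spec.map (CommRingCat.ofHom (algebraMap R (T R B k))) ≫ j := fun k i => by
    rw [hsq.w, ← Category.assoc, ← Spec.map_comp, ← CommRingCat.ofHom_comp]
    exact congrArg (fun φ : R →+* T R B k => Spec.map (CommRingCat.ofHom φ) ≫ j) (leg R B k i).comp_algebraMap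
  let un : ∀ k, Tup g k (Ob k) := fun k =>
    ⟨fun i => Over.homMk (Spec.map (CommRingCat.ofHom (leg R B k i).toRingHom) ≫ q) (by
        show (Spec.map _ ≫ q) ≫ W.hom = Spec.map _ ≫ j ≫ Y.hom
        rw [← Over.w g, Category.assoc, reassoc_of% (hleg k i)]),
      fun i => Over.OverMorphism.ext (by
        show (Spec.map _ ≫ q) ≫ g.left = (Spec.map _ ≫ q) ≫ g.left
        rw [Category.assoc, Category.assoc, hleg k i, hleg k 0])⟩
  let σ : ∀ k, Additive Γ((Ob k).left, ⊤)ˣ →+ Additive (T R B k)ˣ := fun k =>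
    uMap (Scheme.ΓSpecIso (CommRingCat.of (T R B k))).hom.hom
  let z : Additive (T R B (n + 1))ˣ := σ (n + 1) (toU (c.val _ (un (n + 1))))
  have hz : IsCocycle R B z := by
    have h := congrArg (fun s => σ (n + 1 + 1) (toU s)) (hc _ (un (n + 1 + 1)))
    simp only [map_zero, Cochain.d, map_sum, map_zsmul] at h
    rw [IsCocycle, ← h]
    refine Finset.sum_congr rfl fun i _ => congrArg _ ?_
    let k : Ob (n + 1 + 1) ⟶ Ob (n + 1) := Over.homMk (Spec.map (CommRingCat.ofHom (cof R B (n + 1) i).toRingHom)) (by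
      show _ ≫ Spec.map _ ≫ j ≫ Y.hom = Spec.map _ ≫ j ≫ Y.hom
      rw [← Category.assoc, ← Spec.map_comp, ← CommRingCat.ofHom_comp]
      exact congrArg (fun φ : R →+* T R B (n + 1 + 1) => Spec.map (CommRingCat.ofHom φ) ≫ j ≫ Y.hom)
        (cof R B (n + 1) i).comp_algebraMap)
    have hface : (un (n + 1 + 1)).face i = (un (n + 1)).comp k := Subtype.ext (funext fun l => by
      apply Over.OverMorphism.ext
      show Spec.map _ ≫ q = Spec.map _ ≫ Spec.map _ ≫ q
      rw [← Category.assoc, ← Spec.map_comp, ← CommRingCat.ofHom_comp]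
      exact congrArg (fun φ : B →+* T R B (n + 1 + 1) => Spec.map (CommRingCat.ofHom φ) ≫ q)
        (RingHom.ext fun b => (lift_leg (fun i' => leg R B (n + 1 + 1) (i.succAbove i')) l b).symm))
    rw [hface, ← c.nat, toU_map]
    show uMap _ (σ (n + 1) _) = σ (n + 1 + 1) (uMap _ _)
    simp only [σ, uMap_uMap]
    refine congrArg (fun φ : Γ((Ob (n + 1)).left, ⊤) →+* T R B (n + 1 + 1) => uMap φ _) ?_
    show (CommRingCat.Hom.hom ((Scheme.ΓSpecIso (CommRingCat.of (T R B (n + 1)))).hom ≫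
        CommRingCat.ofHom (cof R B (n + 1) i).toRingHom)) = _
    rw [← Scheme.ΓSpecIso_naturality]
    rfl
  obtain ⟨A, _, _, hA, hpA, b, hb⟩ := exists_etale_coboundary hz p
  haveI := hA
  let e₀ : Spec (CommRingCat.of A) ⟶ Y.left := Spec.map (CommRingCat.ofHom (algebraMap R A)) ≫ j
  let Y' : Over S := Over.mk (e₀ ≫ Y.hom)
  let e : Y' ⟶ Y := Over.homMk e₀ rfl
  let g' := pullback.snd g e
  have hR : ∀ {T' : Over S} {m : ℕ} (x : Tup g' m T') (i : Fin (m + 1)),
      ((x.1 i).left ≫ (pullback.fst g e).left) ≫ g.left =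
        ((x.1 0 ≫ g').left ≫ Spec.map (CommRingCat.ofHom (algebraMap R A))) ≫ j := fun x i => by
    rw [← Over.comp_left, ← Over.comp_left, Category.assoc, pullback.condition, ← Category.assoc, x.2 i]
    rw [Over.comp_left, Category.assoc]
    rfl
  let al : ∀ {T' : Over S} {m : ℕ} (_ : Tup g' m T') (_ : Fin (m + 1)), T'.left ⟶ Spec (CommRingCat.of B) :=
    fun x i => hsq.lift _ _ (hR x i)
  let sA : ∀ {T' : Over S} {m : ℕ} (_ : Tup g' m T'), T'.left ⟶ Spec (CommRingCat.of A) :=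
    fun x => (x.1 0 ≫ g').left
  have hψ : ∀ (T' : Over S) (m : ℕ) (x : Tup g' m T'), ∃ ψ : TS R B A m →+* Γ(T'.left, ⊤),
      (∀ a, ψ (a ⊗ₜ 1) = γ (sA x) a) ∧ ∀ i b, ψ (1 ⊗ₜ leg R B m i b) = γ (al x i) b := fun T' m x =>
    exists_ψ _ (fun i => γ (al x i)) fun i r => by
      have h := congrArg γ (hsq.lift_snd _ _ (hR x i))
      rw [γ_specMap, γ_specMap] at h
      exact RingHom.congr_fun h r
  choose ψ hψA hψB using hψ
  have hal : ∀ {T' T'' : Over S} {m m' : ℕ} (x : Tup g' m T') (x' : Tup g' m' T'') (h : T'' ⟶ T') (i : Fin (m + 1))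
      (i' : Fin (m' + 1)), x'.1 i' = h ≫ x.1 i → al x' i' = h.left ≫ al x i := fun x x' h i i' hx => by
    refine hsq.hom_ext ?_ ?_
    · simp only [al, Category.assoc, IsPullback.lift_fst, hx]; rfl
    · simp only [al, Category.assoc, IsPullback.lift_snd]
      have h0 : x'.1 0 ≫ g' = h ≫ x.1 0 ≫ g' := by
        rw [← x'.2 i', hx, Category.assoc, x.2 i]
      rw [h0]; rfl
  have hψnat : ∀ {T' T'' : Over S} {m : ℕ} (h : T'' ⟶ T') (x : Tup g' m T'),
      h.left.appTop.hom.comp (ψ T' m x) = ψ T'' m (x.comp h) := fun {T' T'' m} h x => by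
    refine ringHom_ext (fun a => ?_) (fun i b => ?_)
    · rw [RingHom.comp_apply, hψA, hψA, ← RingHom.comp_apply, ← γ_comp]
      exact congrArg (fun f => γ f a) (congrArg CommaMorphism.left (Category.assoc h (x.1 0) g').symm)
    · rw [RingHom.comp_apply, hψB, hψB, ← RingHom.comp_apply, ← γ_comp, hal x (x.comp h) h i i rfl]
  let bb : Cochain g' (EtDl.GmF S).obj n :=
    { val := fun T' x => ofU (uMap (ψ T' n x) b)
      nat := fun {T' T''} h x => by rw [map_ofU, uMap_uMap, hψnat] }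
  refine ⟨Y', e, ?_, ?_, bb, fun T' x => ?_⟩
  · haveI : Etale (Spec.map (CommRingCat.ofHom (algebraMap R A))) :=
      (HasRingHomProperty.Spec_iff (P := @Etale)).2 (RingHom.etale_algebraMap.2 hA)
    exact inferInstanceAs (Etale (Spec.map (CommRingCat.ofHom (algebraMap R A)) ≫ j))
  · obtain ⟨v, hv⟩ := hpA
    refine ⟨v, ?_⟩
    show (Spec.map (CommRingCat.ofHom (algebraMap R A)) ≫ j) v = y
    rw [Scheme.Hom.comp_apply, show Spec.map (CommRingCat.ofHom (algebraMap R A)) v = p from hv, hp]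
  have hFc : ∀ i, (ψ T' (n + 1) x).comp (Fc R B A n i).toRingHom = ψ T' n (x.face i) := fun i => by
    refine ringHom_ext (fun a => ?_) (fun l b' => ?_)
    · show ψ T' (n + 1) x (Fc R B A n i (a ⊗ₜ 1)) = _
      rw [hψA, Fc, Algebra.TensorProduct.map_tmul, map_one, AlgHom.id_apply, hψA]
      exact congrArg (fun f => γ f a) (congrArg CommaMorphism.left (x.2 (i.succAbove 0)).symm)
    · show ψ T' (n + 1) x (Fc R B A n i (1 ⊗ₜ leg R B n l b')) = _
      rw [hψB, Fc, Algebra.TensorProduct.map_tmul, map_one, cof, lift_leg, hψB,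
        hal x (x.face i) (𝟙 T') (i.succAbove l) l (Category.id_comp _).symm]
      rw [Over.id_left, Category.id_comp]
  have hL : bb.d.val T' x = ofU (uMap (ψ T' (n + 1) x) (dU R B A n b)) := by
    show ∑ i : Fin (n + 2), (-1 : ℤ) ^ (i : ℕ) • (ofU (uMap (ψ T' n (x.face i)) b) : (EtDl.GmF S).obj.obj (op T')) = _
    simp only [dU_apply, map_sum, map_zsmul, uMap_uMap, hFc]
  rw [hL, hb, cst, uMap_uMap]
  let ρ : T R B (n + 1) →+* Γ(T'.left, ⊤) :=
    (ψ T' (n + 1) x).comp (Algebra.TensorProduct.includeRight : T R B (n + 1) →ₐ[R] TS R B A (n + 1)).toRingHom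
  obtain ⟨h₀, hh₀⟩ := exists_hom_of_ringHom ρ
  have hlegh : ∀ i, h₀ ≫ Spec.map (CommRingCat.ofHom (leg R B (n + 1) i).toRingHom) = al x i := fun i => by
    refine γ_injective ?_
    rw [γ_specMap, hh₀]
    exact RingHom.ext fun b' => hψB T' (n + 1) x i b'
  let h : T' ⟶ Ob (n + 1) := Over.homMk h₀ (by
    show h₀ ≫ Spec.map _ ≫ j ≫ Y.hom = T'.hom
    rw [← reassoc_of% (hleg (n + 1) 0), reassoc_of% (hlegh 0), hsq.lift_fst_assoc]
    rw [Over.w g, Category.assoc, Over.w]
    exact Over.w (x.1 0))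
  have hx : pushTup (pullback.fst g e) pullback.condition x = (un (n + 1)).comp h := Subtype.ext (funext fun i => by
    apply Over.OverMorphism.ext
    show _ = h₀ ≫ Spec.map _ ≫ q
    rw [reassoc_of% (hlegh i), IsPullback.lift_fst]
    rfl)
  show _ = c.val T' (pushTup (pullback.fst g e) pullback.condition x)
  rw [hx, ← c.nat, ← ofU_toU ((EtDl.GmF S).obj.map h.op (c.val _ (un (n + 1)))), toU_map]
  refine congrArg ofU ?_
  show uMap ρ z = _
  simp only [z, σ, uMap_uMap, ← hh₀]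
  refine congrArg (fun φ : Γ((Ob (n + 1)).left, ⊤) →+* Γ(T'.left, ⊤) => uMap φ _) ?_
  show CommRingCat.Hom.hom ((Scheme.ΓSpecIso (CommRingCat.of (T R B (n + 1)))).hom ≫
    (Scheme.ΓSpecIso (CommRingCat.of (T R B (n + 1)))).inv ≫ h₀.appTop) = _
  rw [Iso.hom_inv_id_assoc]
  rfl

end Groth.Agent.SmoothDesc24
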