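import Groth.Agent.Lib.SmoothDesc24.Cech
import Groth.Agent.Lib.CmpBig24.Descent

/-! Étale descent of Čech-acyclic fppf sheaves: `R^q a_* G = 0` and `H_et = H_fppf`. -/

universe u

open CategoryTheory CategoryTheory.Limits AlgebraicGeometry Opposite Abelian
open Groth.Agent.CmpSit16 (Syz syzOf)

set_option linter.style.haveILetI false
set_option linter.unusedSectionVars false
set_option backward.isDefEq.respectTransparency false
set_option backward.isDefEq.respectTransparency.types false

namespace Groth.Agent.SmoothDesc24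

variable {S : Scheme.{u}}

theorem acyc_syz (c : Syz (EtFppf.AbF S)) (hc : Acyc (c.S 0)) : ∀ j, Acyc (c.S j)
  | 0 => hc
  | j + 1 =>
    haveI := c.inj j
    acyc_quotient (c.shortExact j) (acyc_syz c hc j)

theorem epi_εX (c : Syz (EtFppf.AbF S)) (hc : Acyc (c.S 0)) (m : ℕ) :
    Epi ((CmpBig24.εX CmpBig24.FppfEt.le S).map (c.p m)) := by
  rw [CmpBig24.epi_iff_lifts]
  intro U x
  refine EtFpqc16.mem_J_of_forall _ fun y => ?_
  obtain ⟨U', e, he, ⟨y', hy'⟩, ht⟩ := etLifts_of_acyc (c.shortExact m) (acyc_syz c hc m) x y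
  exact ⟨U', e, y', he, hy', ht⟩

variable [EtFppf.ACont S]

theorem epi_aPush (c : Syz (EtFppf.AbF S)) (hc : Acyc (c.S 0)) (m : ℕ) :
    Epi ((EtFppf.aPush S).map (c.p m)) := by
  haveI := epi_εX c hc m
  exact (inferInstance : Epi ((BigSite.resEt Scheme.etalePrecoverage S).map
    ((CmpBig24.εX CmpBig24.FppfEt.le S).map (c.p m))))

theorem isZero_RaPush (G : EtFppf.AbF S) (hG : Acyc G) : ∀ q : ℕ, 0 < q → IsZero ((EtFppf.RaPush S q).obj G)
  | 0, h => absurd h (lt_irrefl 0)
  | m + 1, _ => ((syzOf G).isZero_iff_epi (EtFppf.aPush S) m).2 (epi_aPush _ hG m)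

theorem nonempty_H_equiv_of_epi (G : EtFppf.AbF S) (hG : ∀ m, Epi ((EtFppf.aPush S).map ((syzOf G).p m))) (n : ℕ) :
    Nonempty (EtCoh.H S ((EtFppf.aPush S).obj G) n ≃+ EtFppf.HF S G n) := by
  let adj := EtFppf.aAdj S
  let A := (constantSheaf S.smallEtaleTopology AddCommGrpCat.{u + 1}).obj (AddCommGrpCat.of (ULift.{u + 1} ℤ))
  let e := CmpBig24.FppfEt.constIso (X := S) (AddCommGrpCat.of (ULift.{u + 1} ℤ))
  have hA : Nonempty (Ext ((EtFppf.aPull S).obj A) G n ≃+ Ext A ((EtFppf.aPush S).obj G) n) := by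
    cases n with
    | zero => exact ⟨Ext.addEquiv₀.trans ((adj.homAddEquiv A G).trans Ext.addEquiv₀.symm)⟩
    | succ m =>
      let c := syzOf G
      let c' : Syz (EtCoh.Ab S) :=
        { S := fun j => (EtFppf.aPush S).obj (c.S j)
          I := fun j => (EtFppf.aPush S).obj (c.I j)
          i := fun j => (EtFppf.aPush S).map (c.i j)
          p := fun j => (EtFppf.aPush S).map (c.p j)
          w := fun j => by rw [← Functor.map_comp, c.w, Functor.map_zero]
          inj := fun j => haveI := c.inj j; CmpBig24.FppfEt.injective_aPush _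
          shortExact := fun j => by
            have hl := (EtFppf.aPush S).preservesFiniteLimits_iff_forall_exact_map_and_mono.1 inferInstance _
              (c.shortExact j)
            haveI : Epi ((EtFppf.aPush S).map (c.p j)) := hG j
            exact ShortComplex.ShortExact.mk' hl.1 hl.2 (inferInstanceAs (Epi ((EtFppf.aPush S).map (c.p j)))) }
      let k : ((EtFppf.aPull S).obj A ⟶ c.S (m + 1)) →+ Ext ((EtFppf.aPull S).obj A) G (m + 1) :=
        AddMonoidHom.mk' (c.classOf _ m) (c.classOf_add _ m)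
      let k' : ((EtFppf.aPull S).obj A ⟶ c.S (m + 1)) →+ Ext A ((EtFppf.aPush S).obj G) (m + 1) :=
        (AddMonoidHom.mk' (c'.classOf A m) (c'.classOf_add A m)).comp (adj.homAddEquiv A (c.S (m + 1))).toAddMonoidHom
      have hk : Function.Surjective k := c.surjective_classOf _ m
      have hk' : Function.Surjective k' := (c'.surjective_classOf A m).comp (adj.homAddEquiv A _).surjective
      have hker : k.ker = k'.ker := AddSubgroup.ext fun x => by
        refine (c.classOf_eq_zero_iff _ m x).trans (Iff.trans ?_ (c'.classOf_eq_zero_iff A m _).symm)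
        constructor
        · rintro ⟨y, rfl⟩
          exact ⟨adj.homEquiv _ _ y, (adj.homEquiv_naturality_right y (c.p m)).symm⟩
        · rintro ⟨y, hy⟩
          refine ⟨(adj.homEquiv _ _).symm y, (adj.homEquiv _ _).injective ?_⟩
          rw [adj.homEquiv_naturality_right, Equiv.apply_symm_apply]
          exact hy
      exact ⟨(QuotientAddGroup.quotientKerEquivOfSurjective _ hk).symm.trans
        ((QuotientAddGroup.quotientAddEquivOfEq hker).trans (QuotientAddGroup.quotientKerEquivOfSurjective _ hk'))⟩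
  obtain ⟨h⟩ := hA
  have h2 : Function.Bijective ((Ext.mk₀ e.hom).precomp G (zero_add n)) :=
    Function.bijective_iff_has_inverse.2
      ⟨fun y => (Ext.mk₀ e.inv).comp y (zero_add n),
        fun y => by
          show (Ext.mk₀ e.inv).comp ((Ext.mk₀ e.hom).comp y (zero_add n)) (zero_add n) = y
          rw [Ext.mk₀_comp_mk₀_assoc, e.inv_hom_id, Ext.mk₀_id_comp],
        fun y => by
          show (Ext.mk₀ e.hom).comp ((Ext.mk₀ e.inv).comp y (zero_add n)) (zero_add n) = y
          rw [Ext.mk₀_comp_mk₀_assoc, e.hom_inv_id, Ext.mk₀_id_comp]⟩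
  exact ⟨h.symm.trans (AddEquiv.ofBijective _ h2)⟩

theorem nonempty_H_equiv (G : EtFppf.AbF S) (hG : Acyc G) (n : ℕ) :
    Nonempty (EtCoh.H S ((EtFppf.aPush S).obj G) n ≃+ EtFppf.HF S G n) :=
  nonempty_H_equiv_of_epi G (epi_aPush _ hG) n

/-- sheaves acyclic for `a_*` have the same étale and fppf cohomology -/
theorem nonempty_H_equiv_of_isZero (G : EtFppf.AbF S)
    (hG : ∀ q : ℕ, 0 < q → IsZero ((EtFppf.RaPush S q).obj G)) (n : ℕ) :
    Nonempty (EtCoh.H S ((EtFppf.aPush S).obj G) n ≃+ EtFppf.HF S G n) :=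
  nonempty_H_equiv_of_epi G
    (fun m => ((syzOf G).isZero_iff_epi (EtFppf.aPush S) m).1 (hG (m + 1) m.succ_pos)) n

end Groth.Agent.SmoothDesc24
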