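import Groth.Agent.Lib.AmitsurCech12.Basic
import Mathlib.RingTheory.TensorProduct.Finite
import Mathlib.LinearAlgebra.FreeModule.Basic
import Mathlib.LinearAlgebra.TensorProduct.Free

/-! The Amitsur complex: freeness of the terms and exactness with coefficients in a module. -/

universe u

set_option autoImplicit false
set_option backward.isDefEq.respectTransparency false
set_option backward.isDefEq.respectTransparency.types false

open TensorProduct Groth.Agent.AmitsurCech12

namespace Groth.Agent.SmoothDesc24

variable (R A : Type u) [CommRing R] [CommRing A] [Algebra R A]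

/-- `sec` is an isomorphism -/
noncomputable def secEquiv (n : ℕ) : T R A (n + 1) ≃ₐ[R] A ⊗[R] T R A n :=
  AlgEquiv.ofAlgHom (sec R A n)
    (Algebra.TensorProduct.productMap (leg R A (n + 1) 0)
      (AmitsurCech12.lift fun k => leg R A (n + 1) k.succ))
    (by
      refine Algebra.TensorProduct.ext ?_ ?_
      · ext a
        simp [sec]
      · refine algHom_ext fun i a => ?_
        simp [sec])
    (by
      refine algHom_ext fun i a => ?_
      induction i using Fin.cases with
      | zero => simp [sec]
      | succ k => simp [sec])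

/-- the zeroth term -/
noncomputable def zeroEquiv : T R A 0 ≃ₐ[R] A :=
  AlgEquiv.ofAlgHom (AmitsurCech12.lift fun _ => AlgHom.id R A) (leg R A 0 0)
    (by ext a; simp)
    (by
      refine algHom_ext fun i a => ?_
      obtain rfl : i = 0 := Fin.fin_one_eq_zero i
      simp)

theorem free_T [Module.Free R A] : ∀ n, Module.Free R (T R A n)
  | 0 => Module.Free.of_equiv (zeroEquiv R A).symm.toLinearEquiv
  | n + 1 => by
    haveI := free_T n
    exact Module.Free.of_equiv (secEquiv R A n).symm.toLinearEquiv

theorem finite_T [Module.Finite R A] : ∀ n, Module.Finite R (T R A n)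
  | 0 => Module.Finite.equiv (zeroEquiv R A).symm.toLinearEquiv
  | n + 1 => by
    haveI := finite_T n
    exact Module.Finite.equiv (secEquiv R A n).symm.toLinearEquiv

theorem projective_T [Module.Projective R A] : ∀ n, Module.Projective R (T R A n)
  | 0 => Module.Projective.of_equiv (zeroEquiv R A).symm.toLinearEquiv
  | n + 1 => by
    haveI := projective_T n
    exact Module.Projective.of_equiv (secEquiv R A n).symm.toLinearEquiv

variable (N : Type u) [AddCommGroup N] [Module R N]

/-- contraction with coefficients -/
noncomputable def secN (n : ℕ) : N ⊗[R] T R A (n + 1) →ₗ[R] A ⊗[R] (N ⊗[R] T R A n) :=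
  (TensorProduct.leftComm R N A (T R A n)).toLinearMap ∘ₗ (sec R A n).toLinearMap.lTensor N

theorem secN_cof_zero (n : ℕ) :
    secN R A N n ∘ₗ (cof R A n 0).toLinearMap.lTensor N = TensorProduct.mk R A (N ⊗[R] T R A n) 1 := by
  refine TensorProduct.ext' fun x t => ?_
  simp [secN, sec_cof_zero]

theorem secN_cof_succ (n : ℕ) (j : Fin (n + 2)) :
    secN R A N (n + 1) ∘ₗ (cof R A (n + 1) j.succ).toLinearMap.lTensor N =
      ((cof R A n j).toLinearMap.lTensor N).lTensor A ∘ₗ secN R A N n := by
  refine TensorProduct.ext' fun x t => ?_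
  simp only [secN, LinearMap.comp_apply, LinearMap.lTensor_tmul, AlgHom.toLinearMap_apply, sec_cof_succ]
  induction sec R A n t using TensorProduct.induction_on with
  | zero => simp
  | tmul a s => simp
  | add p q hp hq => simp only [map_add, TensorProduct.tmul_add, hp, hq]

theorem mem_range_diffN [Module.FaithfullyFlat R A] (n : ℕ) (x : N ⊗[R] T R A (n + 1))
    (hx : (diff R A (n + 1)).lTensor N x = 0) : x ∈ LinearMap.range ((diff R A n).lTensor N) := by
  have key : secN R A N (n + 1) ∘ₗ (diff R A (n + 1)).lTensor N =
      TensorProduct.mk R A (N ⊗[R] T R A (n + 1)) 1 - ((diff R A n).lTensor N).lTensor A ∘ₗ secN R A N n := by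
    rw [diff, Fin.sum_univ_succ]
    simp only [← LinearMap.coe_lTensorHom, map_add, map_sum, map_zsmul, LinearMap.comp_add, Fin.val_zero,
      pow_zero, one_smul]
    simp only [LinearMap.coe_lTensorHom]
    rw [secN_cof_zero]
    refine LinearMap.ext fun y => ?_
    rw [LinearMap.add_apply, LinearMap.sub_apply, sub_eq_add_neg]
    congr 1
    simp only [diff, ← LinearMap.coe_lTensorHom, map_sum, map_zsmul]
    simp only [LinearMap.coe_lTensorHom]
    simp only [LinearMap.comp_apply, LinearMap.coe_sum, Finset.sum_apply, LinearMap.neg_apply, map_sum,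
      ← Finset.sum_neg_distrib, LinearMap.smul_apply, map_zsmul]
    refine Finset.sum_congr rfl fun j _ => ?_
    rw [Fin.val_succ, pow_succ, mul_neg_one, neg_smul]
    exact congrArg Neg.neg (congrArg _ (LinearMap.congr_fun (secN_cof_succ R A N n j) _))
  have h1 : ((diff R A n).lTensor N).lTensor A (secN R A N n x) = 1 ⊗ₜ x := by
    have h := LinearMap.congr_fun key x
    simp only [LinearMap.comp_apply, hx, map_zero, LinearMap.sub_apply, TensorProduct.mk_apply] at h
    exact (sub_eq_zero.1 h.symm).symm
  let π : N ⊗[R] T R A (n + 1) →ₗ[R] (N ⊗[R] T R A (n + 1)) ⧸ LinearMap.range ((diff R A n).lTensor N) :=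
    Submodule.mkQ _
  have h2 : (1 : A) ⊗ₜ[R] π x = 0 := by
    rw [← LinearMap.lTensor_tmul, ← h1, ← LinearMap.comp_apply, ← LinearMap.lTensor_comp,
      show π.comp ((diff R A n).lTensor N) = 0 from LinearMap.range_mkQ_comp _, LinearMap.lTensor_zero,
      LinearMap.zero_apply]
  exact (Submodule.Quotient.mk_eq_zero _).1
    (Module.FaithfullyFlat.tensorProduct_mk_injective (A := R) (B := A)
      ((N ⊗[R] T R A (n + 1)) ⧸ LinearMap.range ((diff R A n).lTensor N)) (h2.trans (tmul_zero _ _).symm))

end Groth.Agent.SmoothDesc24
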