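import Groth.Agent.Lib.SmoothDesc24.Units
import Groth.Agent.Lib.ProEtEps19.Cochain
import Groth.Agent.S0412
import Mathlib.RingTheory.Smooth.Basic
import Mathlib.RingTheory.FinitePresentation
import Mathlib.LinearAlgebra.TensorProduct.RightExactness
import Mathlib.FieldTheory.IsAlgClosed.AlgebraicClosure
import Mathlib.RingTheory.Flat.Basic
import Mathlib.AlgebraicGeometry.Morphisms.Smooth
import Mathlib.AlgebraicGeometry.Morphisms.Etale

/-! Multiplicative Amitsur cocycles of finite free algebras are coboundaries étale locally. -/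

universe u

set_option autoImplicit false
set_option linter.unusedSectionVars false
set_option linter.style.haveILetI false
set_option backward.isDefEq.respectTransparency false
set_option backward.isDefEq.respectTransparency.types false

open TensorProduct Groth.Agent.AmitsurCech12

namespace Groth.Agent.SmoothDesc24

variable {R B : Type u} [CommRing R] [CommRing B] [Algebra R B]

section DD

variable {S : Type u} [CommRing S] [Algebra R S]

theorem Fc_Fc (n : ℕ) (i : Fin (n + 3)) (j : Fin (n + 2)) :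
    (Fc R B S (n + 1) i).comp (Fc R B S n j) =
      Algebra.TensorProduct.map (AlgHom.id R S)
        (AmitsurCech12.lift fun k => leg R B (n + 1 + 1) (i.succAbove (j.succAbove k))) := by
  refine Algebra.TensorProduct.ext ?_ ?_
  · ext a; simp [Fc]
  · refine algHom_ext fun k a => ?_
    simp [Fc, cof]

theorem dU_dU (n : ℕ) (b : U R B S n) : dU R B S (n + 1) (dU R B S n b) = 0 := by
  refine Eq.trans ?_ (ProEtEps19.alternating_sum_faces (fun y : Fin (n + 1) → Fin (n + 3) =>
    uMap (Algebra.TensorProduct.map (AlgHom.id R S)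
      (AmitsurCech12.lift fun k => leg R B (n + 1 + 1) (y k))).toRingHom b) (id : Fin (n + 3) → Fin (n + 3)))
  rw [dU_apply]
  refine Finset.sum_congr rfl fun i _ => congrArg _ ?_
  rw [dU_apply, map_sum]
  refine Finset.sum_congr rfl fun j _ => ?_
  rw [map_zsmul, uMap_uMap]
  exact congrArg _ (congrArg (fun q : TS R B S n →ₐ[R] TS R B S (n + 1 + 1) => uMap q.toRingHom b) (Fc_Fc n i j))

end DD

section Coord

variable [Module.Projective R B] [Module.Finite R B]

theorem exists_dualBasis (n : ℕ) : ∃ (N : ℕ) (e : Fin N → T R B n) (f : Fin N → T R B n →ₗ[R] R),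
    ∀ x, ∑ i, f i x • e i = x := by
  haveI := projective_T R B n
  haveI := finite_T R B n
  obtain ⟨N, π, hπ⟩ := Module.Finite.exists_fin' R (T R B n)
  obtain ⟨σ, hσ⟩ := Module.projective_lifting_property π LinearMap.id hπ
  refine ⟨N, fun i => π (Pi.single i 1), fun i => (LinearMap.proj i).comp σ, fun x => ?_⟩
  classical
  simp only [LinearMap.comp_apply, LinearMap.proj_apply, ← map_smul]
  rw [← map_sum]
  refine Eq.trans (congrArg π ?_) (LinearMap.congr_fun hσ x)
  funext j
  simp [Finset.sum_apply, Pi.single_apply]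

/-- index set of a dual basis -/
abbrev Idx (R B : Type u) [CommRing R] [CommRing B] [Algebra R B] [Module.Projective R B] [Module.Finite R B]
    (n : ℕ) : Type u :=
  ULift.{u} (Fin (exists_dualBasis (R := R) (B := B) n).choose)

/-- the generators of a dual basis -/
noncomputable def bas (n : ℕ) (i : Idx R B n) : T R B n :=
  (exists_dualBasis (R := R) (B := B) n).choose_spec.choose i.down

/-- the coordinates of a dual basis -/
noncomputable def co (n : ℕ) (i : Idx R B n) : T R B n →ₗ[R] R :=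
  (exists_dualBasis (R := R) (B := B) n).choose_spec.choose_spec.choose i.down

theorem sum_co (n : ℕ) (x : T R B n) : ∑ i, co n i x • bas n i = x :=
  Eq.trans (Equiv.sum_comp Equiv.ulift
    (fun i => (exists_dualBasis (R := R) (B := B) n).choose_spec.choose_spec.choose i x •
      (exists_dualBasis (R := R) (B := B) n).choose_spec.choose i))
    ((exists_dualBasis (R := R) (B := B) n).choose_spec.choose_spec.choose_spec x)

variable {S S' : Type u} [CommRing S] [Algebra R S] [CommRing S'] [Algebra R S']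

/-- coordinates -/
noncomputable def coord {n : ℕ} (x : TS R B S n) (i : Idx R B n) : S :=
  TensorProduct.rid R S ((co n i).lTensor S x)

theorem sum_coord {n : ℕ} (x : TS R B S n) : ∑ i, coord x i ⊗ₜ[R] bas n i = x := by
  induction x using TensorProduct.induction_on with
  | zero => simp [coord]
  | tmul s t =>
    simp only [coord, LinearMap.lTensor_tmul, TensorProduct.rid_tmul, TensorProduct.smul_tmul]
    rw [← TensorProduct.tmul_sum, sum_co]
  | add p q hp hq =>
    simp only [coord, map_add, TensorProduct.add_tmul, Finset.sum_add_distrib] at hp hq ⊢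
    rw [hp, hq]

theorem coord_chg (φ : S →ₐ[R] S') {n : ℕ} (x : TS R B S n) (i : Idx R B n) :
    coord (chg φ n x) i = φ (coord x i) := by
  induction x using TensorProduct.induction_on with
  | zero => simp [coord]
  | tmul s t => simp [coord, chg]
  | add p q hp hq => simp only [coord, map_add] at hp hq ⊢; rw [hp, hq]

theorem eq_zero_iff_coord {n : ℕ} (x : TS R B S n) : x = 0 ↔ ∀ i, coord x i = 0 := by
  refine ⟨fun h i => by simp [h, coord], fun h => ?_⟩
  rw [← sum_coord x]
  simp [h]

end Coord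

section Universal

variable [Module.Projective R B] [Module.Finite R B] {m : ℕ} (z : Additive (T R B (m + 1))ˣ)

/-- variables for a unit and its inverse -/
abbrev P (R B : Type u) [CommRing R] [CommRing B] [Algebra R B] [Module.Projective R B] [Module.Finite R B] (m : ℕ) :
    Type u :=
  MvPolynomial (Idx R B m ⊕ Idx R B m) R

/-- the generic unit -/
noncomputable def gen : TS R B (P R B m) m := ∑ i, MvPolynomial.X (Sum.inl i) ⊗ₜ[R] bas m i

/-- its inverse -/
noncomputable def gen' : TS R B (P R B m) m := ∑ i, MvPolynomial.X (Sum.inr i) ⊗ₜ[R] bas m i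

/-- first equations -/
noncomputable def eq₁ : TS R B (P R B m) m := gen * gen' - 1

/-- second equations -/
noncomputable def eq₂ : TS R B (P R B m) (m + 1) :=
  dProd gen gen' - ((Additive.toMul (cst R B (P R B m) (m + 1) z) : (TS R B (P R B m) (m + 1))ˣ) : TS R B _ _)

/-- the variables are the coordinates of the generic unit and of its inverse -/
noncomputable def eq₃ : Idx R B m ⊕ Idx R B m → P R B m
  | Sum.inl i => MvPolynomial.X (Sum.inl i) - coord gen i
  | Sum.inr i => MvPolynomial.X (Sum.inr i) - coord gen' i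

/-- the ideal of the equations -/
noncomputable def eqIdeal : Ideal (P R B m) :=
  Ideal.span (Set.range (coord (eq₁ (R := R) (B := B) (m := m))) ∪ Set.range (coord (eq₂ z)) ∪
    Set.range (eq₃ (R := R) (B := B) (m := m)))

/-- the algebra of solutions -/
abbrev Sol : Type u := P R B m ⧸ eqIdeal z

instance finitePresentation_sol : Algebra.FinitePresentation R (Sol z) :=
  Algebra.FinitePresentation.quotient
    (Submodule.fg_span (((Set.finite_range _).union (Set.finite_range _)).union (Set.finite_range _)))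

variable {z} {S : Type u} [CommRing S] [Algebra R S]

theorem chg_gen (φ : P R B m →ₐ[R] S) :
    chg φ m gen = ∑ i, φ (MvPolynomial.X (Sum.inl i)) ⊗ₜ[R] bas m i := by
  rw [gen, map_sum]; rfl

theorem chg_gen' (φ : P R B m →ₐ[R] S) :
    chg φ m gen' = ∑ i, φ (MvPolynomial.X (Sum.inr i)) ⊗ₜ[R] bas m i := by
  rw [gen', map_sum]; rfl

theorem exists_sol (ψ : Sol z →ₐ[R] S) : ∃ b : U R B S m, dU R B S m b = cst R B S (m + 1) z ∧
    ((Additive.toMul b : (TS R B S m)ˣ) : TS R B S m) = chg (ψ.comp (Ideal.Quotient.mkₐ R _)) m gen := by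
  let φ := ψ.comp (Ideal.Quotient.mkₐ R (eqIdeal z))
  have hφ : ∀ p ∈ eqIdeal z, φ p = 0 := fun p hp => by
    show ψ (Ideal.Quotient.mk _ p) = 0
    rw [Ideal.Quotient.eq_zero_iff_mem.2 hp, map_zero]
  have h1 : chg φ m gen * chg φ m gen' = 1 := by
    rw [← map_mul, ← sub_eq_zero]
    have : chg φ m (eq₁ (R := R) (B := B) (m := m)) = 0 := (eq_zero_iff_coord _).2 fun i => by
      rw [coord_chg]; exact hφ _ (Ideal.subset_span (Or.inl (Or.inl ⟨i, rfl⟩)))
    rwa [eq₁, map_sub, map_one] at this
  refine ⟨Additive.ofMul ⟨chg φ m gen, chg φ m gen', h1, by rw [mul_comm, h1]⟩, ?_, rfl⟩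
  refine Additive.toMul.injective (Units.ext ?_)
  rw [coe_dU]
  show dProd (chg φ m gen) (chg φ m gen') = _
  rw [← chg_dProd, ← chg_cst φ (m + 1) z, coe_uMap, ← sub_eq_zero]
  show chg φ (m + 1) _ - chg φ (m + 1) _ = 0
  rw [← map_sub]
  exact (eq_zero_iff_coord _).2 fun i => by
    rw [coord_chg]; exact hφ _ (Ideal.subset_span (Or.inl (Or.inr ⟨i, rfl⟩)))

theorem exists_hom (b : U R B S m) (hb : dU R B S m b = cst R B S (m + 1) z) :
    ∃ ψ : Sol z →ₐ[R] S, (∀ i, ψ (Ideal.Quotient.mk _ (MvPolynomial.X (Sum.inl i))) =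
        coord ((Additive.toMul b : (TS R B S m)ˣ) : TS R B S m) i) ∧
      ∀ i, ψ (Ideal.Quotient.mk _ (MvPolynomial.X (Sum.inr i))) =
        coord (((Additive.toMul b : (TS R B S m)ˣ)⁻¹ : _) : TS R B S m) i := by
  let x : (TS R B S m)ˣ := Additive.toMul b
  let φ : P R B m →ₐ[R] S := MvPolynomial.aeval (Sum.elim (coord (x : TS R B S m)) (coord (↑x⁻¹ : TS R B S m)))
  have hg : chg φ m gen = x := by
    rw [chg_gen]
    refine Eq.trans (Finset.sum_congr rfl fun i _ => ?_) (sum_coord (x : TS R B S m))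
    simp [φ]
  have hg' : chg φ m gen' = ↑x⁻¹ := by
    rw [chg_gen']
    refine Eq.trans (Finset.sum_congr rfl fun i _ => ?_) (sum_coord (↑x⁻¹ : TS R B S m))
    simp [φ]
  have hker : ∀ p ∈ eqIdeal z, φ p = 0 := by
    intro p hp
    refine Ideal.span_le.2 (?_ : _ ⊆ (RingHom.ker φ.toRingHom : Set (P R B m))) hp
    rintro _ ((⟨i, rfl⟩ | ⟨i, rfl⟩) | ⟨v, rfl⟩)
    · show φ (coord _ i) = 0
      rw [← coord_chg, eq₁, map_sub, map_mul, map_one, hg, hg', Units.mul_inv, sub_self]
      simp [coord]
    · show φ (coord _ i) = 0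
      rw [← coord_chg, eq₂, map_sub, chg_dProd, hg, hg', ← coe_dU, hb]
      refine (congrArg (fun t => coord t i) (sub_eq_zero.2 ?_)).trans (by simp [coord])
      exact congrArg (fun t : U R B S (m + 1) => ((Additive.toMul t : (TS R B S (m + 1))ˣ) : TS R B S (m + 1)))
        (chg_cst φ (m + 1) z).symm
    · show φ (eq₃ v) = 0
      rcases v with i | i
      · rw [eq₃, map_sub, ← coord_chg, hg, sub_eq_zero]
        simp [φ]
      · rw [eq₃, map_sub, ← coord_chg, hg', sub_eq_zero]
        simp [φ]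
  refine ⟨Ideal.Quotient.liftₐ _ φ hker, fun i => ?_, fun i => ?_⟩
  · show φ _ = _
    simp [φ, x]
  · show φ _ = _
    simp [φ, x]

end Universal

section Lifting

variable [Module.Projective R B] [Module.Finite R B] [Module.FaithfullyFlat R B] {m : ℕ}
  {z : Additive (T R B (m + 1))ˣ}
variable {S : Type u} [CommRing S] [Algebra R S] (I : Ideal S)

theorem coord_mem_of_chg_eq_zero {n : ℕ} {x : TS R B S n} (hx : chg (Ideal.Quotient.mkₐ R I) n x = 0)
    (i : Idx R B n) : coord x i ∈ I :=
  Ideal.Quotient.eq_zero_iff_mem.1 ((coord_chg (Ideal.Quotient.mkₐ R I) x i).symm.trans (by simp [hx, coord]))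

theorem mul_eq_zero_of_ker (hI : I ^ 2 = ⊥) {n : ℕ} {x y : TS R B S n}
    (hx : chg (Ideal.Quotient.mkₐ R I) n x = 0) (hy : chg (Ideal.Quotient.mkₐ R I) n y = 0) : x * y = 0 := by
  rw [← sum_coord x, ← sum_coord y, Finset.sum_mul_sum]
  refine Finset.sum_eq_zero fun i _ => Finset.sum_eq_zero fun j _ => ?_
  have h : coord x i * coord y j ∈ (I ^ 2 : Ideal S) :=
    pow_two I ▸ Ideal.mul_mem_mul (coord_mem_of_chg_eq_zero I hx i) (coord_mem_of_chg_eq_zero I hy j)
  rw [hI, Ideal.mem_bot] at h
  rw [Algebra.TensorProduct.tmul_mul_tmul, h, TensorProduct.zero_tmul]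

theorem chg_surjective (n : ℕ) : Function.Surjective (chg (A := B) (Ideal.Quotient.mkₐ R I) n) :=
  Algebra.TensorProduct.map_surjective _ _ (Ideal.Quotient.mkₐ_surjective R I) Function.surjective_id

/-- solutions lift along square-zero extensions -/
theorem exists_lift (hI : I ^ 2 = ⊥) (hz : IsCocycle R B z) (b₀ : U R B (S ⧸ I) m)
    (hb₀ : dU R B (S ⧸ I) m b₀ = cst R B (S ⧸ I) (m + 1) z) :
    ∃ b : U R B S m, dU R B S m b = cst R B S (m + 1) z ∧ uMap (chg (Ideal.Quotient.mkₐ R I) m).toRingHom b = b₀ := by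
  let π := Ideal.Quotient.mkₐ R I
  let K : ∀ n, Ideal (TS R B S n) := fun n => RingHom.ker (chg (A := B) π n).toRingHom
  have hK : ∀ n, ∀ x ∈ K n, ∀ y ∈ K n, x * y = 0 := fun n x hx y hy => mul_eq_zero_of_ker I hI hx hy
  obtain ⟨x, hx⟩ := chg_surjective (B := B) I m ((Additive.toMul b₀ : (TS R B (S ⧸ I) m)ˣ) : TS R B (S ⧸ I) m)
  obtain ⟨y, hy⟩ := chg_surjective (B := B) I m (((Additive.toMul b₀ : (TS R B (S ⧸ I) m)ˣ)⁻¹ : _) : TS R B (S ⧸ I) m)
  have hk : chg π m (x * y - 1) = 0 := by
    show chg (Ideal.Quotient.mkₐ R I) m (x * y - 1) = 0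
    rw [map_sub, map_mul, map_one, hx, hy, Units.mul_inv, sub_self]
  have hu : IsUnit x := by
    refine isUnit_of_mul_isUnit_left (y := y) ?_
    have : IsNilpotent (x * y - 1) := ⟨2, by rw [pow_two]; exact hK m _ hk _ hk⟩
    simpa using this.isUnit_add_one
  let b : U R B S m := Additive.ofMul hu.unit
  have hb : uMap (chg π m).toRingHom b = b₀ := Additive.toMul.injective (Units.ext hx)
  let N : Submodule R S := I.restrictScalars R
  let jT : ∀ n, N ⊗[R] T R B n →ₗ[R] TS R B S n := fun n => N.subtype.rTensor (T R B n)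
  have hjK : ∀ n w, jT n w ∈ K n := fun n w => by
    show chg π n (jT n w) = 0
    induction w using TensorProduct.induction_on with
    | zero => simp
    | tmul s t =>
      show π s.1 ⊗ₜ[R] t = 0
      rw [show π s.1 = 0 from Ideal.Quotient.eq_zero_iff_mem.2 s.2, TensorProduct.zero_tmul]
    | add p q hp hq => rw [map_add, map_add, hp, hq, add_zero]
  let oP : ∀ n, N ⊗[R] T R B n →+ U R B S n := fun n =>
    (onePlus (hK n)).comp ((jT n).toAddMonoidHom.codRestrict (K n) (hjK n))
  have hinj : ∀ n, Function.Injective (oP n) := fun n => by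
    haveI := projective_T R B n
    intro v w hvw
    have h := congrArg (fun t : U R B S n => ((Additive.toMul t : (TS R B S n)ˣ) : TS R B S n)) hvw
    exact Module.Flat.rTensor_preserves_injective_linearMap (M := T R B n) N.subtype N.subtype_injective
      (add_left_cancel (h : 1 + jT n v = 1 + jT n w))
  have hFc : ∀ n (j : Fin (n + 2)) w,
      uMap (Fc R B S n j).toRingHom (oP n w) = oP (n + 1) ((cof R B n j).toLinearMap.lTensor N w) := by
    intro n j w
    refine Additive.toMul.injective (Units.ext ?_)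
    show Fc R B S n j (1 + jT n w) = 1 + jT (n + 1) ((cof R B n j).toLinearMap.lTensor N w)
    rw [map_add, map_one]
    congr 1
    induction w using TensorProduct.induction_on with
    | zero => simp
    | tmul s t => rfl
    | add p q hp hq => simp only [map_add, hp, hq]
  have hdU : ∀ n w, dU R B S n (oP n w) = oP (n + 1) ((diff R B n).lTensor N w) := fun n w => by
    rw [dU_apply]
    simp only [hFc, diff, ← LinearMap.coe_lTensorHom, map_sum, LinearMap.coe_sum, Finset.sum_apply]
    refine Finset.sum_congr rfl fun j _ => ?_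
    rw [← map_zsmul]
    congr 1
    induction w using TensorProduct.induction_on with
    | zero => simp
    | tmul s t => simp [TensorProduct.tmul_smul]
    | add p q hp hq => rw [map_add, map_add, smul_add, hp, hq]
  obtain ⟨w, hw⟩ : ∃ w, oP (m + 1) w = dU R B S m b - cst R B S (m + 1) z := by
    let e := dU R B S m b - cst R B S (m + 1) z
    have he : uMap (chg π (m + 1)).toRingHom e = 0 := by
      simp only [e, map_sub, uMap_chg_dU, chg_cst, hb, hb₀, sub_self]
    have hek : chg π (m + 1) (((Additive.toMul e : (TS R B S (m + 1))ˣ) : TS R B S (m + 1)) - 1) = 0 := by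
      rw [map_sub, map_one, sub_eq_zero]
      exact congrArg (fun t : U R B (S ⧸ I) (m + 1) => ((Additive.toMul t : (TS R B (S ⧸ I) (m + 1))ˣ) : TS R B (S ⧸ I) (m + 1))) he
    have hex : Function.Exact N.subtype (Ideal.Quotient.mkₐ R I).toLinearMap := fun s => by
      refine ⟨fun hs => ⟨⟨s, Ideal.Quotient.eq_zero_iff_mem.1 hs⟩, rfl⟩, ?_⟩
      rintro ⟨t, rfl⟩
      exact Ideal.Quotient.eq_zero_iff_mem.2 t.2
    have hex' := rTensor_exact (T R B (m + 1)) hex (Ideal.Quotient.mkₐ_surjective R I)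
    obtain ⟨w, hw⟩ := (hex' _).1 (hek : (Ideal.Quotient.mkₐ R I).toLinearMap.rTensor (T R B (m + 1)) _ = 0)
    refine ⟨w, Additive.toMul.injective (Units.ext ?_)⟩
    show 1 + jT (m + 1) w = _
    rw [show jT (m + 1) w = _ from hw]
    exact add_sub_cancel _ _
  have hw0 : (diff R B (m + 1)).lTensor N w = 0 := hinj (m + 1 + 1) (by
    rw [← hdU, hw, map_sub, dU_dU, dU_cst hz, sub_zero, map_zero])
  obtain ⟨v, hv⟩ := mem_range_diffN R B N m w hw0
  refine ⟨b - oP m v, ?_, ?_⟩
  · rw [map_sub, hdU, hv, hw]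
    abel
  · have h0 : uMap (chg π m).toRingHom (oP m v) = 0 := Additive.toMul.injective (Units.ext (by
      show chg π m (1 + jT m v) = 1
      rw [map_add, map_one, show chg π m (jT m v) = 0 from hjK m v, add_zero]))
    show uMap (chg π m).toRingHom _ = _
    rw [map_sub, hb, h0, sub_zero]

theorem formallySmooth_sol (hz : IsCocycle R B z) : Algebra.FormallySmooth R (Sol z) := by
  rw [Algebra.FormallySmooth.iff_comp_surjective]
  intro S _ _ I hI ψ
  obtain ⟨b₀, hb₀, hgen⟩ := exists_sol ψ
  obtain ⟨b, hb, hbb⟩ := exists_lift I hI hz b₀ hb₀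
  obtain ⟨ψ', h₁, h₂⟩ := exists_hom b hb
  refine ⟨ψ', Ideal.Quotient.algHom_ext R (MvPolynomial.algHom_ext fun v => ?_)⟩
  show Ideal.Quotient.mk I (ψ' (Ideal.Quotient.mk _ (MvPolynomial.X v))) = ψ (Ideal.Quotient.mk _ (MvPolynomial.X v))
  obtain ⟨ψ₀, g₁, g₂⟩ := exists_hom b₀ hb₀
  have hψ : ψ₀ = ψ := by
    let φ := ψ.comp (Ideal.Quotient.mkₐ R (eqIdeal z))
    refine Ideal.Quotient.algHom_ext R (MvPolynomial.algHom_ext fun v => ?_)
    have hc : ∀ v, φ (eq₃ v) = 0 := fun v => by
      show ψ (Ideal.Quotient.mk _ _) = 0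
      exact (congrArg ψ (Ideal.Quotient.eq_zero_iff_mem.2
        (show eq₃ v ∈ eqIdeal z from Ideal.subset_span (Or.inr ⟨v, rfl⟩)))).trans (map_zero ψ)
    rcases v with i | i
    · show ψ₀ (Ideal.Quotient.mk _ _) = ψ (Ideal.Quotient.mk _ _)
      rw [g₁, hgen, coord_chg]
      exact (sub_eq_zero.1 ((map_sub φ _ _).symm.trans (hc (Sum.inl i)))).symm
    · show ψ₀ (Ideal.Quotient.mk _ _) = ψ (Ideal.Quotient.mk _ _)
      rw [g₂]
      have h1 : chg φ m gen * chg φ m gen' = 1 := by
        rw [← map_mul, ← sub_eq_zero]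
        have : chg φ m (eq₁ (R := R) (B := B) (m := m)) = 0 := (eq_zero_iff_coord _).2 fun k => by
          rw [coord_chg]
          show ψ (Ideal.Quotient.mk _ _) = 0
          exact (congrArg ψ (Ideal.Quotient.eq_zero_iff_mem.2 (show coord (eq₁ (R := R) (B := B) (m := m)) k ∈ eqIdeal z from Ideal.subset_span (Or.inl (Or.inl ⟨k, rfl⟩))))).trans (map_zero ψ)
        rwa [eq₁, map_sub, map_one] at this
      rw [Units.inv_eq_of_mul_eq_one_right (hgen ▸ h1), coord_chg]
      exact (sub_eq_zero.1 ((map_sub φ _ _).symm.trans (hc (Sum.inr i)))).symm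
  rw [← hψ]
  rcases v with i | i
  · rw [h₁, g₁, ← hbb]
    exact (coord_chg (Ideal.Quotient.mkₐ R I) _ i).symm
  · rw [h₂, g₂, ← hbb]
    exact (coord_chg (Ideal.Quotient.mkₐ R I) _ i).symm

end Lifting

section Main

variable [Module.Projective R B] [Module.Finite R B] [Module.FaithfullyFlat R B] {m : ℕ}
  {z : Additive (T R B (m + 1))ˣ}

/-- a point of `B` over an algebraically closed field -/
theorem exists_point (Ω : Type u) [Field Ω] [IsAlgClosed Ω] [Algebra R Ω] : Nonempty (B →ₐ[R] Ω) := by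
  haveI : Nontrivial (Ω ⊗[R] B) := (TensorProduct.comm R B Ω).symm.toEquiv.nontrivial
  obtain ⟨M, hM⟩ := Ideal.exists_maximal (Ω ⊗[R] B)
  haveI := hM
  letI : Field (Ω ⊗[R] B ⧸ M) := Ideal.Quotient.field M
  haveI : Algebra.IsIntegral Ω (Ω ⊗[R] B ⧸ M) := inferInstance
  have hbij := IsAlgClosed.algebraMap_bijective_of_isIntegral (k := Ω) (K := Ω ⊗[R] B ⧸ M)
  let e : Ω ≃ₐ[Ω] (Ω ⊗[R] B ⧸ M) := AlgEquiv.ofBijective (Algebra.ofId Ω _) hbij
  exact ⟨((e.symm.toAlgHom.comp (Ideal.Quotient.mkₐ Ω M)).restrictScalars R).comp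
    Algebra.TensorProduct.includeRight⟩

theorem exists_sol_field (hz : IsCocycle R B z) (Ω : Type u) [Field Ω] [IsAlgClosed Ω] [Algebra R Ω] :
    ∃ b : U R B Ω m, dU R B Ω m b = cst R B Ω (m + 1) z := by
  obtain ⟨ε⟩ := exists_point (R := R) (B := B) Ω
  let h : ∀ n, T R B (n + 1) →ₐ[R] TS R B Ω n := fun n => AmitsurCech12.lift
    (Fin.cases (Algebra.TensorProduct.includeLeft.comp ε)
      fun k => Algebra.TensorProduct.includeRight.comp (leg R B n k))
  have h0 : ∀ n, (h n).comp (cof R B n 0) = Algebra.TensorProduct.includeRight := fun n =>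
    algHom_ext fun i a => by simp [h, cof]
  have hs : ∀ n (j : Fin (n + 2)), (h (n + 1)).comp (cof R B (n + 1) j.succ) = (Fc R B Ω n j).comp (h n) := by
    intro n j
    refine algHom_ext fun i a => ?_
    induction i using Fin.cases with
    | zero => simp [h, cof, Fc]
    | succ k => simp [h, cof, Fc]
  refine ⟨uMap (h m).toRingHom z, ?_⟩
  have hh := congrArg (uMap (h (m + 1)).toRingHom) hz
  rw [map_sum, map_zero, Fin.sum_univ_succ, Fin.val_zero, pow_zero, one_zsmul, uMap_uMap] at hh
  rw [dU_apply, cst, ← sub_eq_zero, ← neg_eq_zero, neg_sub]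
  refine Eq.trans ?_ hh
  rw [sub_eq_add_neg, ← Finset.sum_neg_distrib]
  congr 1
  · exact congrArg (fun q : T R B (m + 1) →ₐ[R] TS R B Ω (m + 1) => uMap q.toRingHom z) (h0 (m + 1)).symm
  · refine Finset.sum_congr rfl fun j _ => ?_
    rw [map_zsmul, Fin.val_succ, pow_succ, mul_neg_one, neg_smul, uMap_uMap, uMap_uMap]
    exact congrArg Neg.neg (congrArg _
      (congrArg (fun q : T R B (m + 1) →ₐ[R] TS R B Ω (m + 1) => uMap q.toRingHom z) (hs m j).symm))

open AlgebraicGeometry CategoryTheory in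
/-- cocycles are coboundaries étale locally -/
theorem exists_etale_coboundary (hz : IsCocycle R B z) (p : PrimeSpectrum R) :
    ∃ (S : Type u) (_ : CommRing S) (_ : Algebra R S), Algebra.Etale R S ∧
      p ∈ Set.range (PrimeSpectrum.comap (algebraMap R S)) ∧
      ∃ b : U R B S m, dU R B S m b = cst R B S (m + 1) z := by
  haveI := formallySmooth_sol hz
  haveI : Algebra.Smooth R (Sol z) := {}
  let f : Spec (CommRingCat.of (Sol z)) ⟶ Spec (CommRingCat.of R) :=
    Spec.map (CommRingCat.ofHom (algebraMap R (Sol z)))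
  haveI : Smooth f := (HasRingHomProperty.Spec_iff (P := @Smooth)).2 (RingHom.smooth_algebraMap.2 ‹_›)
  have hp : p ∈ Set.range f := by
    let Ω := AlgebraicClosure p.asIdeal.ResidueField
    obtain ⟨b, hb⟩ := exists_sol_field hz Ω
    obtain ⟨ψ, -, -⟩ := exists_hom b hb
    refine ⟨PrimeSpectrum.comap ψ.toRingHom ⊥, ?_⟩
    refine PrimeSpectrum.ext ?_
    show ((RingHom.ker ψ.toRingHom).comap (algebraMap R (Sol z))) = p.asIdeal
    rw [RingHom.comap_ker]
    erw [ψ.comp_algebraMap]
    rw [ IsScalarTower.algebraMap_eq R p.asIdeal.ResidueField Ω,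
      RingHom.ker_comp_of_injective _ (RingHom.injective _), Ideal.ker_algebraMap_residueField]
  obtain ⟨S', g, s', hg, hgs, l, hl⟩ := Groth.Agent.S0412.result f p hp
  obtain ⟨V, hV, hsV, -⟩ := exists_isAffineOpen_mem_and_subset (X := S') (x := s') (U := ⊤) trivial
  let e : CommRingCat.of R ⟶ Γ(S', V) := Spec.preimage (hV.fromSpec ≫ g)
  let a : CommRingCat.of (Sol z) ⟶ Γ(S', V) := Spec.preimage (hV.fromSpec ≫ l)
  letI : Algebra R Γ(S', V) := e.hom.toAlgebra
  have hea : CommRingCat.ofHom (algebraMap R (Sol z)) ≫ a = e := Spec.map_injective (by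
    rw [Spec.map_comp, Spec.map_preimage, Spec.map_preimage, Category.assoc, hl])
  let ψ : Sol z →ₐ[R] Γ(S', V) :=
    { a.hom with commutes' := fun r => RingHom.congr_fun (congrArg CommRingCat.Hom.hom hea) r }
  obtain ⟨b, hb, -⟩ := exists_sol ψ
  refine ⟨Γ(S', V), inferInstance, inferInstance, ?_, ?_, b, hb⟩
  · haveI : Etale (Spec.map e) := by rw [Spec.map_preimage]; infer_instance
    exact RingHom.etale_algebraMap.1 ((HasRingHomProperty.Spec_iff (P := @Etale)).1 ‹_›)
  · obtain ⟨v, hv⟩ : s' ∈ Set.range hV.fromSpec := by rw [hV.range_fromSpec]; exact hsV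
    refine ⟨v, ?_⟩
    show Spec.map e v = p
    rw [Spec.map_preimage, Scheme.Hom.comp_apply, hv, hgs]

end Main

end Groth.Agent.SmoothDesc24
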