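import Groth.Agent.Lib.SmoothDesc24.Main
import Groth.Agent.Lib.RFPlus.Acyclic

/-! Flat cohomology of the kernel of an endomorphism of an `a_*`-acyclic sheaf that is injective étale locally. -/

universe u

open CategoryTheory CategoryTheory.Limits AlgebraicGeometry Opposite Abelian

set_option linter.style.haveILetI false
set_option linter.unusedSectionVars false
set_option backward.isDefEq.respectTransparency false
set_option backward.isDefEq.respectTransparency.types false

namespace Groth.Agent.SmoothDesc24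

/-- the isomorphism of cokernels of a pushout square that stays short exact -/
theorem nonempty_cokernel_iso {C D : Type*} [Category C] [Category D] [Abelian C] [Abelian D] (F : C ⥤ D) [F.Additive]
    {G H I P : C} {f : G ⟶ H} {i : G ⟶ I} {inl : H ⟶ P} {inr : I ⟶ P} (sq : CommSq f i inl inr)
    (hS : (sq.shortComplex.map F).ShortExact) :
    Nonempty (cokernel (F.map f) ≅ cokernel (F.map inr)) := by
  haveI := hS.epi_g
  let α : cokernel (F.map f) ⟶ cokernel (F.map inr) :=
    cokernel.map (F.map f) (F.map inr) (F.map i) (F.map inl) (by rw [← F.map_comp, ← F.map_comp, sq.w])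
  let v : F.obj (H ⊞ I) ⟶ cokernel (F.map f) := F.map biprod.fst ≫ cokernel.π _
  have hv : (sq.shortComplex.map F).f ≫ v = 0 := by
    show F.map (biprod.lift f (-i)) ≫ F.map biprod.fst ≫ cokernel.π _ = 0
    rw [← Category.assoc, ← F.map_comp, biprod.lift_fst, cokernel.condition]
  let c := hS.exact.gIsCokernel
  let w : F.obj P ⟶ cokernel (F.map f) := c.desc (CokernelCofork.ofπ v hv)
  have hw : F.map (biprod.desc inl inr) ≫ w = v := c.fac (CokernelCofork.ofπ v hv) WalkingParallelPair.one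
  have hwl : F.map inl ≫ w = cokernel.π _ := by
    have h := congrArg (fun q => F.map biprod.inl ≫ q) hw
    simp only [← Category.assoc, ← F.map_comp, biprod.inl_desc, v, biprod.inl_fst, F.map_id, Category.id_comp] at h
    exact h
  have hwr : F.map inr ≫ w = 0 := by
    have h := congrArg (fun q => F.map biprod.inr ≫ q) hw
    simp only [← Category.assoc, ← F.map_comp, biprod.inr_desc, v, biprod.inr_fst, F.map_zero, zero_comp] at h
    exact h
  refine ⟨⟨α, cokernel.desc _ w hwr, ?_, ?_⟩⟩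
  · refine coequalizer.hom_ext ?_
    simp [α, hwl]
  · refine coequalizer.hom_ext ?_
    show cokernel.π _ ≫ cokernel.desc _ w hwr ≫ α = cokernel.π _ ≫ 𝟙 _
    rw [cokernel.π_desc_assoc, Category.comp_id]
    have : Epi (F.map (biprod.desc inl inr)) := inferInstanceAs (Epi (sq.shortComplex.map F).g)
    refine (cancel_epi (F.map (biprod.desc inl inr))).1 ?_
    rw [reassoc_of% hw]
    simp only [v, α, Category.assoc, cokernel.π_desc]
    rw [biprod.desc_eq, F.map_add, Preadditive.add_comp, F.map_comp, F.map_comp, Category.assoc, Category.assoc,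
      cokernel.condition, comp_zero, add_zero]

section Generic

universe w w' v v' u₁ u₂

variable {C : Type u₁} [Category.{v} C] [Abelian C]

theorem shortExact_pushoutSeq {G I : C} (f : G ⟶ G) (i : G ⟶ I) [Epi f] [Mono i] :
    ∃ w : (kernel.ι f ≫ i) ≫ pushout.inr f i = 0, (ShortComplex.mk _ _ w).ShortExact := by
  have w : (kernel.ι f ≫ i) ≫ pushout.inr f i = 0 := by
    rw [Category.assoc, ← pushout.condition, kernel.condition_assoc, zero_comp]
  refine ⟨w, ?_⟩
  let T := ShortComplex.mk _ _ w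
  have hk : ∀ {W : C} (h : I ⟶ W), T.f ≫ h = 0 → ∃ l : pushout f i ⟶ W, pushout.inr f i ≫ l = h := fun {W} h hh => by
    let c := Abelian.epiIsCokernelOfKernel _ (kernelIsKernel f)
    let s : CokernelCofork (kernel.ι f) := CokernelCofork.ofπ (i ≫ h) (by rw [← Category.assoc]; exact hh)
    exact ⟨pushout.desc (c.desc s) h (c.fac s WalkingParallelPair.one), pushout.inr_desc _ _ _⟩
  haveI : Epi T.g := inferInstanceAs (Epi (pushout.inr f i))
  refine ShortComplex.ShortExact.mk' (ShortComplex.exact_of_g_is_cokernel _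
    (CokernelCofork.IsColimit.ofπ T.g T.zero (fun h hh => (hk h hh).choose) (fun h hh => (hk h hh).choose_spec)
      (fun h hh l hl => (cancel_epi T.g).1 (hl.trans (hk h hh).choose_spec.symm)))) inferInstance inferInstance

theorem shortExact_pushoutSquare {G I : C} (f : G ⟶ G) (i : G ⟶ I) [Mono i] :
    (CommSq.shortComplex (⟨pushout.condition⟩ : CommSq f i (pushout.inl f i) (pushout.inr f i))).ShortExact := by
  let sq : CommSq f i (pushout.inl f i) (pushout.inr f i) := ⟨pushout.condition⟩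
  haveI : Mono (-i) := ⟨fun a b h => (cancel_mono i).1 (neg_injective (by simpa using h))⟩
  haveI : Mono sq.shortComplex.f :=
    mono_of_mono_fac (show biprod.lift f (-i) ≫ biprod.snd = -i from biprod.lift_snd _ _)
  haveI := (IsPushout.of_hasPushout f i).epi_shortComplex_g
  exact ShortComplex.ShortExact.mk' (ShortComplex.exact_of_g_is_cokernel _
    (IsPushout.of_hasPushout f i).isColimitCokernelCofork) inferInstance inferInstance

variable {D : Type u₂} [Category.{v'} D] [Abelian D] (F : C ⥤ D) [F.Additive]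

theorem mono_map_pushout_inr [PreservesFiniteLimits F] {G I : C} (f : G ⟶ G) (i : G ⟶ I) [Epi f] [Mono i]
    [Mono (F.map f)] : Mono (F.map (pushout.inr f i)) := by
  obtain ⟨w, hT⟩ := shortExact_pushoutSeq f i
  have hl := F.preservesFiniteLimits_iff_forall_exact_map_and_mono.1 inferInstance _ hT
  have hκ : F.map (kernel.ι f) = 0 := by
    rw [← cancel_mono (F.map f), ← F.map_comp, kernel.condition, F.map_zero, zero_comp]
  exact hl.1.mono_g (by
    show F.map (kernel.ι f ≫ i) = 0
    rw [F.map_comp, hκ, zero_comp])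

theorem isZero_rightDerived_pushout [HasDerivedCategory.{w} C] [HasDerivedCategory.{w'} D] [EnoughInjectives C]
    [PreservesFiniteLimits F] {G I : C} (f : G ⟶ G) (i : G ⟶ I) [Mono i] [Injective I]
    (hG : ∀ q : ℕ, 0 < q → IsZero ((F.rightDerived q).obj G)) :
    (∀ q : ℕ, 0 < q → IsZero ((F.rightDerived q).obj (pushout f i))) ∧
      Nonempty (cokernel (F.map f) ≅ cokernel (F.map (pushout.inr f i))) := by
  have hS₂ := shortExact_pushoutSquare f i
  have hI : ∀ q : ℕ, 0 < q → IsZero ((F.rightDerived q).obj I)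
    | 0, h => absurd h (lt_irrefl 0)
    | q + 1, _ => F.isZero_rightDerived_obj_injective_succ q _
  have hmid : ∀ q : ℕ, 0 < q → IsZero ((F.rightDerived q).obj (G ⊞ I)) := fun q hq =>
    RFPlus.isZero_rightDerived_X₂ F _ (ShortComplex.Splitting.ofHasBinaryBiproduct G I).shortExact q
      (hG q hq) (hI q hq)
  exact ⟨fun q hq => RFPlus.isZero_rightDerived_X₃ F _ hS₂ q (hmid q hq) (hG (q + 1) q.succ_pos),
    nonempty_cokernel_iso F _ (RFPlus.shortExact_map_of_isZero F _ hS₂ (hG 1 one_pos))⟩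

variable [HasExt.{w} C] [HasExt.{w'} D]

theorem nonempty_ext_iso {A : D} {X Y : D} (e : X ≅ Y) (m : ℕ) : Nonempty (Ext A X m ≃+ Ext A Y m) :=
  ⟨AddEquiv.ofBijective ((Ext.mk₀ e.hom).postcomp A (add_zero m)) (Function.bijective_iff_has_inverse.2
    ⟨fun y => y.comp (Ext.mk₀ e.inv) (add_zero m),
      fun y => by
        show (y.comp (Ext.mk₀ e.hom) (add_zero m)).comp (Ext.mk₀ e.inv) (add_zero m) = y
        rw [Ext.comp_assoc_of_second_deg_zero, Ext.mk₀_comp_mk₀, e.hom_inv_id, Ext.comp_mk₀_id],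
      fun y => by
        show (y.comp (Ext.mk₀ e.inv) (add_zero m)).comp (Ext.mk₀ e.hom) (add_zero m) = y
        rw [Ext.comp_assoc_of_second_deg_zero, Ext.mk₀_comp_mk₀, e.inv_hom_id, Ext.comp_mk₀_id]⟩)⟩

variable {L : D ⥤ C} (adj : L ⊣ F) {A : D} {A' : C} (e : A' ≅ L.obj A)
  {T : ShortComplex C} (hT : T.ShortExact) [Injective T.X₂] {T' : ShortComplex D} (hT' : T'.ShortExact)
  [Injective T'.X₁]

include hT hT'

theorem nonempty_ext_succ_equiv (j : ℕ) (h : Nonempty (Ext A T'.X₂ (j + 1) ≃+ Ext A' T.X₃ (j + 1))) :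
    Nonempty (Ext A' T.X₁ (j + 1 + 1) ≃+ Ext A T'.X₃ (j + 1)) := by
  obtain ⟨h⟩ := h
  have b2 : Function.Bijective ((Ext.mk₀ T'.g).postcomp A (add_zero (j + 1))) := by
    refine ⟨(injective_iff_map_eq_zero _).2 fun x hx => ?_, fun y =>
      Ext.covariant_sequence_exact₃ A hT' y rfl (Ext.eq_zero_of_injective _)⟩
    obtain ⟨z, hz⟩ := Ext.covariant_sequence_exact₂ A hT' x hx
    rw [← hz, Ext.eq_zero_of_injective z, Ext.zero_comp]
  exact ⟨(AddEquiv.ofBijective _ (CmpSit16.bijective_extClass_postcomp hT A' j)).symm.trans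
    (h.symm.trans (AddEquiv.ofBijective _ b2))⟩

include adj e

theorem nonempty_ext_one_equiv (r : T'.X₁ ≅ F.obj T.X₂) (r' : T'.X₂ ≅ F.obj T.X₃)
    (hr : T'.f ≫ r'.hom = r.hom ≫ F.map T.g) :
    Nonempty (Ext A' T.X₁ 1 ≃+ Ext A T'.X₃ 0) := by
  haveI := adj.left_adjoint_additive
  let φ : (A' ⟶ T.X₃) ≃+ (A ⟶ T'.X₂) :=
    { toFun := fun y => adj.homEquiv _ _ (e.inv ≫ y) ≫ r'.inv
      invFun := fun z => e.hom ≫ (adj.homEquiv _ _).symm (z ≫ r'.hom)
      left_inv := fun y => by simp
      right_inv := fun z => by simp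
      map_add' := fun a b => by
        rw [Preadditive.comp_add, ← adj.homAddEquiv_apply, map_add, Preadditive.add_comp]
        rfl }
  let k : (A' ⟶ T.X₃) →+ Ext A' T.X₁ 1 :=
    (hT.extClass.postcomp A' (zero_add 1)).comp Ext.addEquiv₀.symm.toAddMonoidHom
  let k' : (A' ⟶ T.X₃) →+ Ext A T'.X₃ 0 :=
    (((Ext.mk₀ T'.g).postcomp A (add_zero 0)).comp Ext.addEquiv₀.symm.toAddMonoidHom).comp φ.toAddMonoidHom
  have s₁ : Function.Surjective (hT.extClass.postcomp A' (zero_add 1)) := fun y =>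
    Ext.covariant_sequence_exact₁ A' hT y (Ext.eq_zero_of_injective _) (zero_add 1)
  have s₂ : Function.Surjective ((Ext.mk₀ T'.g).postcomp A (add_zero 0)) := fun y =>
    Ext.covariant_sequence_exact₃ A hT' y (zero_add 1) (Ext.eq_zero_of_injective _)
  have hk : Function.Surjective k := fun y => by
    obtain ⟨z, hz⟩ := s₁ y
    exact ⟨Ext.addEquiv₀ z, (congrArg (hT.extClass.postcomp A' (zero_add 1)) (Ext.addEquiv₀.symm_apply_apply z)).trans hz⟩
  have hk' : Function.Surjective k' := fun y => by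
    obtain ⟨z, hz⟩ := s₂ y
    refine ⟨φ.symm (Ext.addEquiv₀ z), ?_⟩
    show (Ext.mk₀ T'.g).postcomp A (add_zero 0) (Ext.addEquiv₀.symm (φ (φ.symm (Ext.addEquiv₀ z)))) = y
    rw [φ.apply_symm_apply, Ext.addEquiv₀.symm_apply_apply, hz]
  have hφ : ∀ y : A' ⟶ T.X₂, φ (y ≫ T.g) = (adj.homEquiv A T.X₂ (e.inv ≫ y) ≫ r.inv) ≫ T'.f := fun y => by
    show adj.homEquiv A _ (e.inv ≫ y ≫ T.g) ≫ r'.inv = _
    rw [← Category.assoc e.inv, Adjunction.homEquiv_naturality_right, Category.assoc, Category.assoc]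
    refine congrArg (adj.homEquiv A T.X₂ (e.inv ≫ y) ≫ ·) ((Iso.comp_inv_eq _).2 ?_)
    rw [Category.assoc, hr, Iso.inv_hom_id_assoc]
  have hker : k.ker = k'.ker := AddSubgroup.ext fun x => by
    constructor
    · intro hx
      obtain ⟨z, hz⟩ := Ext.covariant_sequence_exact₃ A' hT (Ext.addEquiv₀.symm x) (zero_add 1) hx
      obtain ⟨y, rfl⟩ := Ext.addEquiv₀.symm.surjective z
      have hxy : x = y ≫ T.g := Ext.addEquiv₀.symm.injective (hz.symm.trans (Ext.mk₀_comp_mk₀ _ _))
      show (Ext.mk₀ (φ x)).comp (Ext.mk₀ T'.g) (add_zero 0) = 0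
      rw [Ext.mk₀_comp_mk₀, hxy, hφ, Category.assoc, T'.zero, comp_zero, Ext.mk₀_zero]
    · intro hx
      obtain ⟨z, hz⟩ := Ext.covariant_sequence_exact₂ A hT' (Ext.addEquiv₀.symm (φ x)) hx
      obtain ⟨w, rfl⟩ := Ext.addEquiv₀.symm.surjective z
      let y : A' ⟶ T.X₂ := e.hom ≫ (adj.homEquiv A T.X₂).symm (w ≫ r.hom)
      have hxy : x = y ≫ T.g := φ.injective (by
        rw [hφ, Iso.inv_hom_id_assoc, Equiv.apply_symm_apply, Category.assoc, Category.assoc, Iso.hom_inv_id_assoc]
        exact (Ext.addEquiv₀.symm.injective (hz.symm.trans (Ext.mk₀_comp_mk₀ _ _))))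
      show (Ext.mk₀ x).comp hT.extClass (zero_add 1) = 0
      rw [hxy, ← Ext.mk₀_comp_mk₀, Ext.comp_assoc_of_second_deg_zero, hT.comp_extClass, Ext.comp_zero]
  exact ⟨(QuotientAddGroup.quotientKerEquivOfSurjective _ hk).symm.trans
    ((QuotientAddGroup.quotientAddEquivOfEq hker).trans (QuotientAddGroup.quotientKerEquivOfSurjective _ hk'))⟩

end Generic

variable {S : Scheme.{u}} [EtFppf.ACont S]

theorem nonempty_HF_kernel_equiv (G : EtFppf.AbF S) (hG : ∀ q : ℕ, 0 < q → IsZero ((EtFppf.RaPush S q).obj G))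
    (f : G ⟶ G) [Epi f] [Mono ((EtFppf.aPush S).map f)] (m : ℕ) :
    Nonempty (EtFppf.HF S (kernel f) (m + 1) ≃+ EtCoh.H S (cokernel ((EtFppf.aPush S).map f)) m) := by
  letI := HasDerivedCategory.standard (EtFppf.AbF S)
  letI := HasDerivedCategory.standard (EtCoh.Ab S)
  let i : G ⟶ Injective.under G := Injective.ι G
  obtain ⟨hP, ⟨eC⟩⟩ := isZero_rightDerived_pushout (EtFppf.aPush S) f i hG
  obtain ⟨w, hT⟩ := shortExact_pushoutSeq f i
  haveI : Injective (ShortComplex.mk _ _ w).X₂ := inferInstanceAs (Injective (Injective.under G))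
  have hm := mono_map_pushout_inr (EtFppf.aPush S) f i
  let T' : ShortComplex (EtCoh.Ab S) :=
    ShortComplex.mk ((EtFppf.aPush S).map (pushout.inr f i)) (cokernel.π _) (cokernel.condition _)
  have hT' : T'.ShortExact := ShortComplex.ShortExact.mk'
    (ShortComplex.exact_of_g_is_cokernel _ (cokernelIsCokernel _)) hm inferInstance
  haveI : Injective T'.X₁ := CmpBig24.FppfEt.injective_aPush (Injective.under G)
  obtain ⟨h₂⟩ := nonempty_ext_iso (A := (constantSheaf S.smallEtaleTopology AddCommGrpCat.{u + 1}).obj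
    (AddCommGrpCat.of (ULift.{u + 1} ℤ))) eC m
  have hk : Nonempty (EtFppf.HF S (kernel f) (m + 1) ≃+ EtCoh.H S T'.X₃ m) := by
    cases m with
    | succ j =>
      exact nonempty_ext_succ_equiv hT hT' j (nonempty_H_equiv_of_isZero (pushout f i) hP (j + 1))
    | zero =>
      exact nonempty_ext_one_equiv (EtFppf.aPush S) (EtFppf.aAdj S)
        (CmpBig24.FppfEt.constIso (X := S) (AddCommGrpCat.of (ULift.{u + 1} ℤ))) hT hT' (Iso.refl _) (Iso.refl _)
        ((Category.comp_id _).trans (Category.id_comp _).symm)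
  obtain ⟨h⟩ := hk
  exact ⟨h.trans h₂.symm⟩

end Groth.Agent.SmoothDesc24
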