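import Groth.Agent.Lib.EtStalk.Finite

/-! Étale covers of a finite scheme are refined étale locally on the base by clopen partitions. -/

universe u

open CategoryTheory CategoryTheory.Limits AlgebraicGeometry
open Groth.Agent.Weight Groth.Agent.EtStalk

set_option linter.style.haveILetI false
set_option backward.isDefEq.respectTransparency false
set_option backward.isDefEq.respectTransparency.types false

namespace Groth.Agent.SmoothDesc24

/-- An étale covering family of a finite scheme over `Y` is refined, étale locally on `Y`, by a partition into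
open subsets. -/
theorem exists_split {X Y : Scheme.{u}} (f : X ⟶ Y) [IsFinite f] (Q : ∀ ⦃Z : Scheme.{u}⦄, (Z ⟶ X) → Prop)
    (hQ : ∀ x : X, ∃ (Z : Scheme.{u}) (e : Z ⟶ X), Etale e ∧ Q e ∧ x ∈ Set.range e) (y : Y) :
    ∃ (U : Scheme.{u}) (g : U ⟶ Y), Etale g ∧ y ∈ Set.range g ∧
      ∃ (κ : Type u) (P : κ → (pullback f g).Opens), (∀ z, ∃! l, z ∈ P l) ∧
        ∀ l, ∃ (Z : Scheme.{u}) (e : Z ⟶ X) (σ : (P l : Scheme.{u}) ⟶ Z),
          Q e ∧ σ ≫ e = (P l).ι ≫ pullback.fst f g := by
  classical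
  let Ω := AlgebraicClosure (Y.residueField y)
  let η : Spec (CommRingCat.of Ω) ⟶ Y :=
    Spec.map (CommRingCat.ofHom (algebraMap (Y.residueField y) Ω)) ≫ Y.fromSpecResidueField y
  have hη : η default = y := by
    rw [Scheme.Hom.comp_apply]
    exact Scheme.fromSpecResidueField_apply _ _
  let W : Y.Etale := EtCoh.top Y
  let w : fib η W := Over.homMk η (Category.comp_id _)
  let B := (EtCoh.bc f).obj W
  haveI : IsIso (pullback.snd W.hom f) := by
    haveI : IsIso W.hom := inferInstanceAs (IsIso (𝟙 Y))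
    infer_instance
  have hfib : ∀ l : fLifts f η, ∃ (Z : Scheme.{u}) (e : Z ⟶ X) (c : Spec (CommRingCat.of Ω) ⟶ Z),
      Etale e ∧ Q e ∧ c ≫ e = l.1 := fun l => by
    obtain ⟨Z, e, he, hq, z, hz⟩ := hQ (pt l.1)
    haveI := FiniteSplit.locallyQuasiFinite_of_etale e
    obtain ⟨c, hc, -⟩ := exists_lift_of_eq e z (e.quasiFiniteAt z) l.1 hz
    exact ⟨Z, e, c, he, hq, hc⟩
  choose Z e c he hq hc using hfib
  let V : fLifts f η → X.Etale := fun l => MorphismProperty.Over.mk ⊤ (e l) (he l)
  let m : ∀ l, V l ⟶ B := fun l => MorphismProperty.Over.homMk (e l ≫ inv (pullback.snd W.hom f)) (by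
    show (e l ≫ inv (pullback.snd W.hom f)) ≫ pullback.snd W.hom f = e l
    rw [Category.assoc, IsIso.inv_hom_id, Category.comp_id])
  let cc : ∀ l, fib l.1 (V l) := fun l => Over.homMk (c l) (hc l)
  obtain ⟨U, gU, u, P, σ, hgu, hpart, hσ, -⟩ := exists_refinement f η w V m cc (fun l => by
    apply Over.OverMorphism.ext
    refine (cancel_mono (pullback.snd W.hom f)).1 ?_
    show (c l ≫ (m l).left) ≫ _ = _
    refine Eq.trans ?_ (pullback.lift_snd _ _ _).symm
    show (c l ≫ e l ≫ inv (pullback.snd W.hom f)) ≫ pullback.snd W.hom f = l.1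
    rw [Category.assoc, Category.assoc, IsIso.inv_hom_id, Category.comp_id, hc])
  let s := pullbackSymmetry f U.hom
  refine ⟨U.left, U.hom, U.prop, ?_, fLifts f η, fun l => s.hom ⁻¹ᵁ P l, fun z => hpart (s.hom z), fun l => ?_⟩
  · let ul : Spec (CommRingCat.of Ω) ⟶ U.left := u.left
    refine ⟨ul default, ?_⟩
    rw [← Scheme.Hom.comp_apply]
    exact (congrArg (fun q : Spec (CommRingCat.of Ω) ⟶ Y => q default) (Over.w u)).trans hη
  · let r : (s.hom ⁻¹ᵁ P l : Scheme.{u}) ⟶ (P l : Scheme.{u}) := s.hom ∣_ P l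
    refine ⟨Z l, e l, r ≫ (σ l).left, hq l, ?_⟩
    have h := MorphismProperty.Over.w (σ l)
    rw [Category.assoc]
    refine (congrArg (r ≫ ·) h).trans ?_
    show r ≫ (P l).ι ≫ pullback.snd U.hom f = _
    rw [← Category.assoc, morphismRestrict_ι, Category.assoc, pullbackSymmetry_hom_comp_snd]

end Groth.Agent.SmoothDesc24
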