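import Groth.Prelude.Def_EtDlF
import Groth.Prelude.Def_Frob
import Groth.Agent.Lib.CmpBig24.Slices
import Groth.Agent.Lib.Hens.Reduced
import Mathlib.RingTheory.AdjoinRoot

/-! Roots of units exist fppf locally; `p`-th powers are injective on units of reduced schemes of characteristic `p`. -/

universe u

open CategoryTheory CategoryTheory.Limits AlgebraicGeometry Opposite Polynomial

set_option linter.style.haveILetI false
set_option linter.unusedSectionVars false
set_option backward.isDefEq.respectTransparency false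
set_option backward.isDefEq.respectTransparency.types false

namespace Groth.Agent.SmoothDesc24

theorem surjective_root {A : Type u} [CommRing A] (n : ℕ) (hn : 0 < n) (a : A) :
    Surjective (Spec.map (CommRingCat.ofHom (algebraMap A (AdjoinRoot (X ^ n - C a))))) := by
  refine ⟨fun p => ?_⟩
  let K := AlgebraicClosure p.asIdeal.ResidueField
  let ι : A →+* K := (algebraMap p.asIdeal.ResidueField K).comp (algebraMap A p.asIdeal.ResidueField)
  obtain ⟨x, hx⟩ := IsAlgClosed.exists_pow_nat_eq (k := K) (ι a) hn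
  let φ : AdjoinRoot (X ^ n - C a) →+* K := AdjoinRoot.lift ι x (by simp [hx])
  have e : φ.comp (algebraMap A (AdjoinRoot (X ^ n - C a))) = ι := RingHom.ext fun r => by
    show φ (AdjoinRoot.of _ r) = ι r
    exact AdjoinRoot.lift_of _
  refine ⟨⟨RingHom.ker φ, RingHom.ker_isPrime _⟩, PrimeSpectrum.ext ?_⟩
  show (RingHom.ker φ).comap (algebraMap A _) = p.asIdeal
  refine (RingHom.comap_ker _ _).trans ?_
  rw [e, RingHom.ker_comp_of_injective _ (algebraMap p.asIdeal.ResidueField K).injective]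
  exact Ideal.ker_algebraMap_residueField _

theorem exists_root_algebra {A : Type u} [CommRing A] (n : ℕ) (hn : 0 < n) (a : Aˣ) :
    ∃ (B : Type u) (_ : CommRing B) (_ : Algebra A B) (ρ : B),
      Module.Flat A B ∧ Algebra.FinitePresentation A B ∧ ρ ^ n = algebraMap A B a ∧
        Surjective (Spec.map (CommRingCat.ofHom (algebraMap A B))) := by
  haveI : Module.Free A (AdjoinRoot (X ^ n - C (a : A))) :=
    Module.Free.of_basis (AdjoinRoot.powerBasis' (monic_X_pow_sub_C _ hn.ne')).basis
  refine ⟨AdjoinRoot (X ^ n - C (a : A)), inferInstance, inferInstance, AdjoinRoot.root _, inferInstance,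
    inferInstance, ?_, surjective_root n hn (a : A)⟩
  have h := AdjoinRoot.eval₂_root (X ^ n - C (a : A))
  rw [eval₂_sub, eval₂_pow, eval₂_X, eval₂_C, sub_eq_zero] at h
  exact h

theorem nsmul_id_apply {D : Type*} [Category D] {T : GrothendieckTopology D} (F : Sheaf T AddCommGrpCat.{u + 1})
    (n : ℕ) (U : D) (b : F.obj.obj (op U)) : (n • 𝟙 F).hom.app (op U) b = n • b := by
  induction n with
  | zero => simp
  | succ k ih =>
    rw [succ_nsmul, succ_nsmul, ← ih]
    rfl

set_option maxHeartbeats 400000 in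
theorem epi_nsmul_GmF (S : Scheme.{u}) (n : ℕ) (hn : 0 < n) : Epi (n • 𝟙 (EtDl.GmF S)) := by
  rw [CmpBig24.epi_iff_lifts]
  intro U s
  let s' : Γ(U.left, ⊤)ˣ := Additive.toMul s.down
  have hW : ∀ x : U.left, ∃ W : U.left.Opens, IsAffineOpen W ∧ x ∈ W := fun x => by
    obtain ⟨W, hW, hxW, -⟩ := exists_isAffineOpen_mem_and_subset (U := (⊤ : U.left.Opens)) (x := x) trivial
    exact ⟨W, hW, hxW⟩
  choose W hWa hxW using hW
  let r : ∀ x, Γ(U.left, ⊤) ⟶ Γ(U.left, W x) := fun x => (hWa x).fromSpec.appTop ≫ (Scheme.ΓSpecIso _).hom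
  let a : ∀ x, Γ(U.left, W x)ˣ := fun x => Units.map (r x).hom.toMonoidHom s'
  choose B iB iA ρ hflat hfp hρ hsurj using fun x => exists_root_algebra n hn (a x)
  let φ : ∀ x, Γ(U.left, W x) ⟶ CommRingCat.of (B x) := fun x =>
    letI := iB x; letI := iA x; CommRingCat.ofHom (algebraMap Γ(U.left, W x) (B x))
  let q : ∀ x, Spec (CommRingCat.of (B x)) ⟶ U.left := fun x => Spec.map (φ x) ≫ (hWa x).fromSpec
  haveI : ∀ x, Flat (Spec.map (φ x)) := fun x =>
    letI := iB x; letI := iA x
    HasRingHomProperty.Spec_iff.2 (RingHom.flat_algebraMap_iff.2 (hflat x))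
  haveI : ∀ x, LocallyOfFinitePresentation (Spec.map (φ x)) := fun x =>
    letI := iB x; letI := iA x
    HasRingHomProperty.Spec_iff.2 (RingHom.finitePresentation_algebraMap.2 (hfp x))
  let Ob : U.left → Over S := fun x => Over.mk (q x ≫ U.hom)
  let ι : ∀ x, Ob x ⟶ U := fun x => Over.homMk (q x) rfl
  refine (EtFppf.J S).superset_covering (S := Sieve.ofArrows Ob ι) ?_ ?_
  · rw [Sieve.ofArrows, Sieve.generate_le_iff]
    rintro _ _ ⟨x⟩
    letI := iB x; letI := iA x
    have hρx : ρ x ^ n = φ x (a x) := hρ x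
    have hunit : IsUnit (ρ x) := (isUnit_pow_iff hn.ne').mp (hρx ▸ (a x).isUnit.map (φ x).hom)
    let b : Γ((Ob x).left, ⊤)ˣ := Units.map (Scheme.ΓSpecIso (CommRingCat.of (B x))).inv.hom.toMonoidHom hunit.unit
    refine ⟨ULift.up (Additive.ofMul b), (nsmul_id_apply _ n _ _).trans (ULift.ext _ _ ?_)⟩
    show n • Additive.ofMul b = Additive.ofMul (Units.map (q x).appTop.hom.toMonoidHom s')
    rw [← ofMul_pow]
    refine congrArg Additive.ofMul (Units.ext ?_)
    show (Scheme.ΓSpecIso (CommRingCat.of (B x))).inv hunit.unit.val ^ n = (q x).appTop s'.val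
    have e : r x ≫ φ x ≫ (Scheme.ΓSpecIso (CommRingCat.of (B x))).inv = (q x).appTop := by
      rw [Scheme.Hom.comp_appTop, Category.assoc, Scheme.ΓSpecIso_inv_naturality, Iso.hom_inv_id_assoc]
    rw [← map_pow, hunit.unit_spec, hρx, ← e]
    rfl
  · rw [GrothendieckTopology.mem_over_iff, Sieve.overEquiv_ofArrows]
    refine Precoverage.generate_mem_toGrothendieck ((Scheme.ofArrows_mem_precoverage_iff _).2 ⟨fun x => ⟨x, ?_⟩, fun x => ?_⟩)
    · obtain ⟨z, hz⟩ : x ∈ Set.range (hWa x).fromSpec := (hWa x).range_fromSpec.ge (hxW x)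
      obtain ⟨y, hy⟩ := (hsurj x).surj z
      refine ⟨y, ?_⟩
      show (Spec.map (φ x) ≫ (hWa x).fromSpec) y = x
      rw [Scheme.Hom.comp_apply]
      exact (congrArg (hWa x).fromSpec hy).trans hz
    · exact ⟨inferInstanceAs (Flat (Spec.map (φ x) ≫ (hWa x).fromSpec)),
        inferInstanceAs (LocallyOfFinitePresentation (Spec.map (φ x) ≫ (hWa x).fromSpec))⟩

theorem isReduced_of_etale' {X Y : Scheme.{u}} (g : Y ⟶ X) [Etale g] [IsReduced X] : IsReduced Y := by
  haveI : ∀ y : Y, _root_.IsReduced (Y.presheaf.stalk y) := fun y => by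
    obtain ⟨U, hU, hyU, -⟩ := exists_isAffineOpen_mem_and_subset (X := X) (x := g y) (U := ⊤) trivial
    obtain ⟨V, hV, hyV, hVU⟩ := exists_isAffineOpen_mem_and_subset (X := Y) (x := y) (U := g ⁻¹ᵁ U) hyU
    have hft := HasRingHomProperty.appLE (P := @Etale) g inferInstance ⟨U, hU⟩ ⟨V, hV⟩ hVU
    algebraize [(g.appLE U V hVU).hom]
    haveI : _root_.IsReduced Γ(Y, V) := Hens.isReduced_of_etale Γ(X, U) Γ(Y, V)
    letI := Y.presheaf.algebra_section_stalk (⟨y, hyV⟩ : V)
    haveI := hV.isLocalization_stalk ⟨y, hyV⟩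
    exact @isReduced_localizationPreserves Γ(Y, V) _ (hV.primeIdealOf ⟨y, hyV⟩).asIdeal.primeCompl
      (Y.presheaf.stalk y) _ _ _ inferInstance
  exact isReduced_of_isReduced_stalk Y

theorem mono_powMap (p : ℕ) [Fact p.Prime] (X : Scheme.{u}) [FrobSch.IsCharP X p] [IsReduced X] :
    Mono (EtCoh.powMap X p) := by
  haveI : ∀ V, Mono ((EtCoh.powMap X p).hom.app V) := fun V => by
    rw [AddCommGrpCat.mono_iff_injective]
    intro s t h
    erw [nsmul_id_apply, nsmul_id_apply] at h
    haveI : Etale V.unop.hom := V.unop.prop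
    haveI : IsReduced ((Functor.fromPUnit X).obj V.unop.right) := inferInstanceAs (IsReduced X)
    haveI : IsReduced V.unop.left := isReduced_of_etale' V.unop.hom
    let R := Γ(V.unop.left, ⊤)
    have hz : (p : R) = 0 := by
      have h0 := congrArg V.unop.hom.appTop.hom (FrobSch.IsCharP.natCast_eq_zero (X := X) (p := p))
      rwa [map_natCast, map_zero] at h0
    refine ULift.ext _ _ (Additive.toMul.injective (Units.ext ?_))
    rcases subsingleton_or_nontrivial R with hR | hR
    · exact Subsingleton.elim (α := R) _ _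
    haveI : CharP R p := (CharP.charP_iff_prime_eq_zero Fact.out).2 hz
    have h' : ((Additive.toMul s.down : Rˣ) : R) ^ p = ((Additive.toMul t.down : Rˣ) : R) ^ p :=
      congrArg (fun z : (EtCoh.Gm X).obj.obj (op V.unop) => ((Additive.toMul z.down : Rˣ) : R)) h
    exact frobenius_inj R p h'
  haveI : Mono ((sheafToPresheaf _ _).map (EtCoh.powMap X p)) := NatTrans.mono_of_mono_app (EtCoh.powMap X p).hom
  exact (sheafToPresheaf _ _).mono_of_mono_map ‹_›

end Groth.Agent.SmoothDesc24
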