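import Groth.Agent.Lib.SmoothDesc24.Amitsur
import Mathlib.RingTheory.Nilpotent.Basic
import Mathlib.RingTheory.Ideal.Quotient.Operations
import Mathlib.Algebra.Ring.Parity

/-! The multiplicative Amitsur complex. -/

universe u

set_option autoImplicit false
set_option linter.unusedSectionVars false
set_option backward.isDefEq.respectTransparency false
set_option backward.isDefEq.respectTransparency.types false

open TensorProduct Groth.Agent.AmitsurCech12

namespace Groth.Agent.SmoothDesc24

variable (R A : Type u) [CommRing R] [CommRing A] [Algebra R A]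
variable (S : Type u) [CommRing S] [Algebra R S]

/-- the terms with coefficients -/
abbrev TS (n : ℕ) : Type u := S ⊗[R] T R A n

/-- cofaces with coefficients -/
noncomputable def Fc (n : ℕ) (j : Fin (n + 2)) : TS R A S n →ₐ[R] TS R A S (n + 1) :=
  Algebra.TensorProduct.map (AlgHom.id R S) (cof R A n j)

/-- units, written additively -/
abbrev U (n : ℕ) : Type u := Additive (TS R A S n)ˣ

/-- a map of rings on units -/
noncomputable def uMap {M M' : Type u} [CommRing M] [CommRing M'] (φ : M →+* M') :
    Additive Mˣ →+ Additive M'ˣ := MonoidHom.toAdditive (Units.map φ.toMonoidHom)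

@[simp] theorem coe_uMap {M M' : Type u} [CommRing M] [CommRing M'] (φ : M →+* M') (x : Additive Mˣ) :
    ((Additive.toMul (uMap φ x) : M'ˣ) : M') = φ (Additive.toMul x : Mˣ) := rfl

theorem uMap_uMap {M M' M'' : Type u} [CommRing M] [CommRing M'] [CommRing M''] (φ : M →+* M') (ψ : M' →+* M'')
    (x : Additive Mˣ) : uMap ψ (uMap φ x) = uMap (ψ.comp φ) x :=
  Additive.toMul.injective (Units.ext rfl)

/-- the differential -/
noncomputable def dU (n : ℕ) : U R A S n →+ U R A S (n + 1) :=
  ∑ j : Fin (n + 2), (-1 : ℤ) ^ (j : ℕ) • uMap (Fc R A S n j).toRingHom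

variable {R A S}

theorem dU_apply {n : ℕ} (b : U R A S n) :
    dU R A S n b = ∑ j : Fin (n + 2), (-1 : ℤ) ^ (j : ℕ) • uMap (Fc R A S n j).toRingHom b := by
  simp only [dU, AddMonoidHom.finsetSum_apply]
  rfl

/-- the polynomial expressing the differential in terms of a unit and its inverse -/
noncomputable def dProd {n : ℕ} (p q : TS R A S n) : TS R A S (n + 1) :=
  ∏ j : Fin (n + 2), Fc R A S n j (if Even (j : ℕ) then p else q)

theorem coe_dU {n : ℕ} (b : U R A S n) :
    ((Additive.toMul (dU R A S n b) : (TS R A S (n + 1))ˣ) : TS R A S (n + 1)) =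
      dProd ((Additive.toMul b : (TS R A S n)ˣ) : TS R A S n) (((Additive.toMul b : (TS R A S n)ˣ)⁻¹ : _) : TS R A S n) := by
  rw [dU_apply, toMul_sum, Units.coe_prod, dProd]
  refine Finset.prod_congr rfl fun j _ => ?_
  rcases Nat.even_or_odd (j : ℕ) with h | h
  · rw [h.neg_one_pow, one_zsmul, if_pos h]; rfl
  · rw [h.neg_one_pow, neg_one_zsmul, if_neg (Nat.not_even_iff_odd.2 h)]
    rfl

variable {S' : Type u} [CommRing S'] [Algebra R S']

/-- change of coefficients -/
noncomputable def chg (φ : S →ₐ[R] S') (n : ℕ) : TS R A S n →ₐ[R] TS R A S' n :=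
  Algebra.TensorProduct.map φ (AlgHom.id R (T R A n))

theorem chg_Fc (φ : S →ₐ[R] S') (n : ℕ) (j : Fin (n + 2)) (x : TS R A S n) :
    chg φ (n + 1) (Fc R A S n j x) = Fc R A S' n j (chg φ n x) := by
  induction x using TensorProduct.induction_on with
  | zero => simp
  | tmul a b => simp [chg, Fc]
  | add p q hp hq => simp only [map_add, hp, hq]

theorem chg_dProd (φ : S →ₐ[R] S') {n : ℕ} (p q : TS R A S n) :
    chg φ (n + 1) (dProd p q) = dProd (chg φ n p) (chg φ n q) := by
  rw [dProd, dProd, map_prod]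
  exact Finset.prod_congr rfl fun j _ => by rw [chg_Fc]; split <;> rfl

theorem uMap_chg_dU (φ : S →ₐ[R] S') {n : ℕ} (b : U R A S n) :
    uMap (chg φ (n + 1)).toRingHom (dU R A S n b) = dU R A S' n (uMap (chg φ n).toRingHom b) := by
  rw [dU_apply, dU_apply, map_sum]
  refine Finset.sum_congr rfl fun j _ => ?_
  rw [map_zsmul]
  exact congrArg _ (Additive.toMul.injective (Units.ext (chg_Fc φ n j _)))

variable (R A S)

/-- constant units -/
noncomputable def cst (n : ℕ) : Additive (T R A n)ˣ →+ U R A S n :=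
  uMap (Algebra.TensorProduct.includeRight : T R A n →ₐ[R] TS R A S n).toRingHom

variable {R A S}

theorem chg_cst (φ : S →ₐ[R] S') (n : ℕ) (z : Additive (T R A n)ˣ) :
    uMap (chg φ n).toRingHom (cst R A S n z) = cst R A S' n z :=
  Additive.toMul.injective (Units.ext (by simp [cst, chg]))

variable (R A) in
/-- a cocycle -/
def IsCocycle {n : ℕ} (z : Additive (T R A n)ˣ) : Prop :=
  ∑ j : Fin (n + 2), (-1 : ℤ) ^ (j : ℕ) • uMap (cof R A n j).toRingHom z = 0

theorem dU_cst {n : ℕ} {z : Additive (T R A n)ˣ} (hz : IsCocycle R A z) : dU R A S n (cst R A S n z) = 0 := by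
  have h := congrArg (cst R A S (n + 1)) hz
  rw [map_zero, map_sum] at h
  rw [dU_apply, ← h]
  refine Finset.sum_congr rfl fun j _ => ?_
  rw [map_zsmul]
  exact congrArg _ (Additive.toMul.injective (Units.ext (by simp [cst, Fc])))

section SquareZero

variable {M : Type u} [CommRing M] {K : Ideal M}

/-- `x ↦ 1 + x` on a square-zero ideal -/
noncomputable def onePlus (hK : ∀ x ∈ K, ∀ y ∈ K, x * y = 0) : K →+ Additive Mˣ where
  toFun x := Additive.ofMul
    ⟨1 + x.1, 1 - x.1, by linear_combination -(hK _ x.2 _ x.2), by linear_combination -(hK _ x.2 _ x.2)⟩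
  map_zero' := Additive.toMul.injective (Units.ext (by simp))
  map_add' x y := Additive.toMul.injective (Units.ext (by
    show 1 + (x.1 + y.1) = (1 + x.1) * (1 + y.1)
    linear_combination -(hK _ x.2 _ y.2)))

@[simp] theorem coe_onePlus (hK : ∀ x ∈ K, ∀ y ∈ K, x * y = 0) (x : K) :
    ((Additive.toMul (onePlus hK x) : Mˣ) : M) = 1 + x.1 := rfl

end SquareZero

end Groth.Agent.SmoothDesc24
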